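import Cfsg.Agent.Lib.Lie.Chev.CoxTorus.WMat

/-!
# The order of the centraliser of a diagonal element
-/

set_option autoImplicit false

namespace CfsgLib.Lie.OddInvol

open Cfsg.Lie CfsgLib.Lie.Chev CfsgLib.Lie.CoxTorus
open scoped MatrixGroups

variable {D : ChevalleyDatum} (C : Full D) {K : Type*} [Field K] [Fintype K]

omit [Fintype K] in
theorem tor_commute_xu (v : Fin D.rank → Kˣ) (t : Fin D.nroots → K) :
    C.G.tor v * C.uprod 0 t * (C.G.tor v)⁻¹ =
      C.uprod 0 fun r => (C.G.chi v (C.G.rho r) : K) * t r := by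
  rw [← MulAut.conj_apply, Full.uprod, Full.uprod, map_list_prod, List.map_map]
  congr 1
  exact List.map_congr_left fun r _ => C.G.tor_conj_xu v r (t r)

omit [Fintype K] in
theorem commute_uprod_iff (v : Fin D.rank → Kˣ) (t : Fin D.nroots → K) :
    Commute (C.G.tor v) (C.uprod 0 t) ↔
      ∀ r : Fin D.nroots, D.IsPosRoot r.val → C.G.chi v (C.G.rho r) ≠ 1 → t r = 0 := by
  constructor
  · intro h r hr hne
    have e := tor_commute_xu C v t
    rw [h.eq, mul_inv_cancel_right] at e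
    have h1 := C.uprod_inj D.nroots 0 (Nat.zero_add _) _ _ e r (Nat.zero_le _) hr
    by_contra h0
    exact hne (Units.ext (mul_right_cancel₀ h0 ((one_mul _).trans h1)).symm)
  · intro h
    have e : C.G.tor v * C.uprod 0 t * (C.G.tor v)⁻¹ = C.uprod 0 t := by
      rw [tor_commute_xu]
      refine C.uprod_congr fun r _ hr => ?_
      by_cases hc : C.G.chi v (C.G.rho r) = 1
      · rw [hc, Units.val_one, one_mul]
      · rw [h r hr hc, mul_zero]
    exact mul_inv_eq_iff_eq_mul.1 e

/-- the part of a group of positive root elements that commutes with a diagonal element -/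
def fixPart (v : Fin D.rank → Kˣ) (S : Subgroup (GL D.Idx K)) : Set (GL D.Idx K) :=
  {u | u ∈ S ∧ Commute (C.G.tor v) u}

open scoped Classical in
theorem card_fix_pos (v : Fin D.rank → Kˣ) :
    Nat.card (fixPart C v (D.posUnipotent K)) = Fintype.card K ^
      (Finset.univ.filter fun r : Fin D.nroots =>
        D.IsPosRoot r.val ∧ C.G.chi v (C.G.rho r) = 1).card := by
  let S := {r : Fin D.nroots // D.IsPosRoot r.val ∧ C.G.chi v (C.G.rho r) = 1}
  let ext : (S → K) → Fin D.nroots → K :=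
    fun t r => if h : D.IsPosRoot r.val ∧ C.G.chi v (C.G.rho r) = 1 then t ⟨r, h⟩ else 0
  let Φ : (S → K) → fixPart C v (D.posUnipotent K) := fun t =>
    ⟨C.uprod 0 (ext t), C.G.posUnipotent_eq (K := K) ▸ C.uprod_mem 0 _,
      (commute_uprod_iff C v _).2 fun r _ hc => dif_neg fun e => hc e.2⟩
  have hΦ : Function.Bijective Φ := by
    constructor
    · intro t t' h
      funext r
      have := C.uprod_inj D.nroots 0 (Nat.zero_add _) _ _ (congrArg Subtype.val h) r.1
        (Nat.zero_le _) r.2.1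
      simpa [ext, r.2.1, r.2.2] using this
    · rintro ⟨u, hu, hc⟩
      rw [C.G.posUnipotent_eq] at hu
      obtain ⟨t, rfl⟩ := C.exists_uprod D.nroots 0 (Nat.zero_add _) u hu
      refine ⟨fun r => t r.1, Subtype.ext (C.uprod_congr fun r _ hr => ?_)⟩
      simp only [ext]
      split_ifs with h
      · rfl
      · exact ((commute_uprod_iff C v t).1 hc r hr fun e => h ⟨hr, e⟩).symm
  rw [← Nat.card_eq_of_bijective Φ hΦ, Nat.card_eq_fintype_card, Fintype.card_fun,
    Fintype.card_subtype]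

open scoped Classical in
theorem card_fix_Uinv (v : Fin D.rank → Kˣ) {n : GL D.Idx K} {π : Equiv.Perm (Fin D.nroots)}
    (hn : C.G.NPerm n π) :
    Nat.card (fixPart C v (Uinv C.G π)) = Fintype.card K ^
      (Finset.univ.filter fun r : Fin D.nroots =>
        D.IsPosRoot r.val ∧ ¬ D.IsPosRoot (π r).val ∧ C.G.chi v (C.G.rho r) = 1).card := by
  let S := {r : Fin D.nroots // D.IsPosRoot r.val ∧ ¬ D.IsPosRoot (π r).val ∧
    C.G.chi v (C.G.rho r) = 1}
  let ext : (S → K) → Fin D.nroots → K := fun t r =>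
    if h : D.IsPosRoot r.val ∧ ¬ D.IsPosRoot (π r).val ∧ C.G.chi v (C.G.rho r) = 1
      then -t ⟨r, h⟩ else 0
  let Φ : (S → K) → fixPart C v (Uinv C.G π) := fun t =>
    ⟨(C.uprod 0 (ext t))⁻¹,
      inv_mem (C.uprod_mem_closure (fun r => ¬ D.IsPosRoot (π r).val) _
        fun r _ h => dif_neg fun e => h e.2.1),
      ((commute_uprod_iff C v _).2 fun r _ hc => dif_neg fun e => hc e.2.2).inv_right⟩
  have hΦ : Function.Bijective Φ := by
    constructor
    · intro t t' h
      funext r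
      have h' : C.uprod 0 (ext t) = C.uprod 0 (ext t') := inv_injective (congrArg Subtype.val h)
      have := C.uprod_inj D.nroots 0 (Nat.zero_add _) _ _ h' r.1 (Nat.zero_le _) r.2.1
      simpa [ext, r.2.1, r.2.2.1, r.2.2.2] using this
    · rintro ⟨b, hb, hc⟩
      obtain ⟨t, rfl⟩ := C.Uinv_param hn hb
      have hc' := (commute_uprod_iff C v _).1 (Commute.inv_right_iff.1 hc)
      refine ⟨fun r => t r.1, Subtype.ext (congrArg (·⁻¹) (C.uprod_congr fun r _ hr => ?_))⟩
      simp only [ext]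
      split_ifs with h h2 h2
      · exact absurd h2 h.2.1
      · rfl
      · rfl
      · have h3 := hc' r hr fun e => h ⟨hr, h2, e⟩
        rw [if_neg h2] at h3
        exact h3.symm
  rw [← Nat.card_eq_of_bijective Φ hΦ, Nat.card_eq_fintype_card, Fintype.card_fun,
    Fintype.card_subtype]

open scoped Classical in
/-- the permutations of the Weyl group fixing the character -/
noncomputable def stab (v : Fin D.rank → Kˣ) : Finset (Equiv.Perm (Fin D.nroots)) :=
  Finset.univ.filter fun π =>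
    π ∈ C.G.Wg ∧ ∀ r, C.G.chi v (C.G.rho (π r)) = C.G.chi v (C.G.rho r)

open scoped Classical in
/-- the order of the centraliser of a diagonal element -/
theorem card_centralizer (v : Fin D.rank → Kˣ) (hv : C.G.tor v ∈ D.diagonalSubgroup K) :
    Nat.card (Subgroup.centralizer
        ({⟨C.G.tor v, C.G.monomial_le_group (C.G.H_le_monomial hv)⟩} : Set ↥(D.group K))) =
      Fintype.card K ^ (Finset.univ.filter fun r : Fin D.nroots =>
          D.IsPosRoot r.val ∧ C.G.chi v (C.G.rho r) = 1).card *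
        Nat.card ↥(D.diagonalSubgroup K) *
        ∑ π ∈ stab C v, Fintype.card K ^ (Finset.univ.filter fun r : Fin D.nroots =>
          D.IsPosRoot r.val ∧ ¬ D.IsPosRoot (π r).val ∧ C.G.chi v (C.G.rho r) = 1).card := by
  haveI : Finite (GL D.Idx K) := inferInstance
  let W := {π : Equiv.Perm (Fin D.nroots) // π ∈ stab C v}
  have hW : ∀ w : W, w.1 ∈ C.G.Wg := fun w => (Finset.mem_filter.1 w.2).2.1
  have hWc : ∀ (w : W) r, C.G.chi v (C.G.rho (w.1 r)) = C.G.chi v (C.G.rho r) :=
    fun w => (Finset.mem_filter.1 w.2).2.2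
  let nr : W → GL D.Idx K := fun w => C.G.nw (C.G.exists_pw (hW w)).choose
  have hnr : ∀ w : W, C.G.NPerm (nr w) w.1 := fun w => by
    have := C.G.nPerm_nw (K := K) (C.G.exists_pw (hW w)).choose
    rwa [(C.G.exists_pw (hW w)).choose_spec] at this
  have hnrN : ∀ w : W, nr w ∈ D.monomialSubgroup K := fun w => C.G.nw_mem_monomial _
  have hnrC : ∀ w : W, Commute (C.G.tor v) (nr w) := fun w =>
    (conj_of_chi C (hnrN w) (hnr w) fun j => by
      rw [hWc w, C.G.rho_simp, C.G.chi_single]).symm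
  have hHc : ∀ h ∈ D.diagonalSubgroup K, Commute (C.G.tor v) h := fun h hh => by
    obtain ⟨c, rfl⟩ := C.G.exists_tor hh
    exact (Commute.all v c).map C.G.tor
  set t : ↥(D.group K) := ⟨C.G.tor v, C.G.monomial_le_group (C.G.H_le_monomial hv)⟩ with ht
  have hmem : ∀ g : ↥(D.group K), g ∈ Subgroup.centralizer ({t} : Set ↥(D.group K)) ↔
      Commute (C.G.tor v) (g : GL D.Idx K) := fun g => by
    rw [Subgroup.mem_centralizer_singleton_iff, ← Subtype.coe_inj, Subgroup.coe_mul,
      Subgroup.coe_mul, ht]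
    exact ⟨fun h => h.symm, fun h => h.eq.symm⟩
  let Φ : (fixPart C v (D.posUnipotent K) × ↥(D.diagonalSubgroup K)) ×
      (Σ w : W, fixPart C v (Uinv C.G w.1)) →
      ↥(Subgroup.centralizer ({t} : Set ↥(D.group K))) :=
    fun x => ⟨⟨(x.1.1.1 : GL D.Idx K) * x.1.2 * nr x.2.1 * x.2.2.1,
      mul_mem (mul_mem (mul_mem (C.G.posUnipotent_le_group x.1.1.2.1)
        (C.G.monomial_le_group (C.G.H_le_monomial x.1.2.2))) (C.G.monomial_le_group (hnrN _)))
        (C.G.posUnipotent_le_group (C.G.Uinv_le _ x.2.2.2.1))⟩,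
      (hmem _).2 (((x.1.1.2.2.mul_right (hHc _ x.1.2.2)).mul_right (hnrC _)).mul_right x.2.2.2.2)⟩
  have hΦ : Function.Bijective Φ := by
    constructor
    · rintro ⟨⟨a, h⟩, w, u⟩ ⟨⟨a', h'⟩, w', u'⟩ e
      have e' : (a.1 : GL D.Idx K) * h * nr w * u.1 = (a'.1 : GL D.Idx K) * h' * nr w' * u'.1 :=
        congrArg (fun z => ((z : ↥(D.group K)) : GL D.Idx K)) (congrArg Subtype.val e)
      have hb : (a.1 : GL D.Idx K) * h ∈ D.borelSubgroup K :=
        mul_mem (Subgroup.mem_sup_left a.2.1) (Subgroup.mem_sup_right h.2)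
      have hb' : (a'.1 : GL D.Idx K) * h' ∈ D.borelSubgroup K :=
        mul_mem (Subgroup.mem_sup_left a'.2.1) (Subgroup.mem_sup_right h'.2)
      have e1 := C.eqv_mem_H (hnrN w) (hnrN w') hb hb'
        (Subgroup.mem_sup_left (C.G.Uinv_le _ u.2.1)) (Subgroup.mem_sup_left (C.G.Uinv_le _ u'.2.1)) e'
      have e2 := Good.NPerm.unique C.G (C.G.nPerm_H e1)
        (Good.NPerm.mul C.G (Good.NPerm.inv C.G (hnr w)) (hnr w'))
      rw [eq_comm, inv_mul_eq_one] at e2
      have : w = w' := Subtype.ext e2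
      subst this
      obtain ⟨e3, e4⟩ := C.refined_unique hb hb' (hnr w) u.2.1 u'.2.1 e'
      obtain ⟨e5, e6⟩ := C.G.eq_one_of_U_H (mul_mem (inv_mem a'.2.1) a.2.1)
        (mul_mem h.2 (inv_mem h'.2)) (by
          calc (a'.1 : GL D.Idx K)⁻¹ * a.1 * ((h : GL D.Idx K) * (h' : GL D.Idx K)⁻¹)
              = (a'.1 : GL D.Idx K)⁻¹ * ((a.1 : GL D.Idx K) * h) * (h' : GL D.Idx K)⁻¹ := by group
            _ = 1 := by rw [e3]; group)
      have ea : a = a' := Subtype.ext (inv_mul_eq_one.1 e5).symm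
      have eh : h = h' := Subtype.ext (mul_inv_eq_one.1 e6)
      have eu : u = u' := Subtype.ext e4
      rw [ea, eh, eu]
    · rintro ⟨⟨g, hg⟩, hgc⟩
      have hcom : Commute (C.G.tor v) g := (hmem _).1 hgc
      obtain ⟨b, hb, n, hn, π, hπ, u, hu, rfl⟩ := C.refined_exists hg
      obtain ⟨a, ha, d, hd, rfl⟩ := C.G.mem_borel_iff.1 hb
      set m := d * n with hm
      have hmN : m ∈ D.monomialSubgroup K := mul_mem (C.G.H_le_monomial hd) hn
      have hmπ : C.G.NPerm m π := by
        have := Good.NPerm.mul C.G (C.G.nPerm_H hd) hπ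
        rwa [one_mul] at this
      have hmv : m * C.G.tor v * m⁻¹ ∈ D.diagonalSubgroup K :=
        (Subgroup.mem_normalizer_iff.1 (C.G.monomial_le_normalizer hmN) _).1 hv
      have hu' := C.G.Uinv_congr_H (inv_mem hv) π hu
      rw [inv_inv] at hu'
      have e : (a * (m * C.G.tor v * m⁻¹)) * m * ((C.G.tor v)⁻¹ * u * C.G.tor v) =
          (C.G.tor v * a) * m * u := by
        calc (a * (m * C.G.tor v * m⁻¹)) * m * ((C.G.tor v)⁻¹ * u * C.G.tor v)
            = a * d * n * u * C.G.tor v := by rw [hm]; group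
          _ = C.G.tor v * (a * d * n * u) := hcom.eq.symm
          _ = (C.G.tor v * a) * m * u := by rw [hm]; group
      obtain ⟨e1, e2⟩ := C.refined_unique
        (mul_mem (Subgroup.mem_sup_left ha) (Subgroup.mem_sup_right hmv))
        (mul_mem (Subgroup.mem_sup_right hv) (Subgroup.mem_sup_left ha)) hmπ hu' hu e
      have hva : C.G.tor v * a * (C.G.tor v)⁻¹ ∈ D.posUnipotent K :=
        (Subgroup.mem_normalizer_iff.1 (C.G.H_normalizes_U hv) a).1 ha
      obtain ⟨e3, e4⟩ := C.G.eq_one_of_U_H (mul_mem (inv_mem hva) ha) (mul_mem hmv (inv_mem hv)) (by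
        calc (C.G.tor v * a * (C.G.tor v)⁻¹)⁻¹ * a * (m * C.G.tor v * m⁻¹ * (C.G.tor v)⁻¹)
            = C.G.tor v * a⁻¹ * (C.G.tor v)⁻¹ * (a * (m * C.G.tor v * m⁻¹)) * (C.G.tor v)⁻¹ := by
              group
          _ = 1 := by rw [e1]; group)
      have hcm : m * C.G.tor v = C.G.tor v * m := mul_inv_eq_iff_eq_mul.1 (mul_inv_eq_one.1 e4)
      have hca : Commute (C.G.tor v) a := by
        rw [inv_mul_eq_one] at e3
        exact mul_inv_eq_iff_eq_mul.1 e3
      have hcu : Commute (C.G.tor v) u := by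
        show C.G.tor v * u = u * C.G.tor v
        calc C.G.tor v * u = C.G.tor v * ((C.G.tor v)⁻¹ * u * C.G.tor v) := by rw [e2]
          _ = u * C.G.tor v := by group
      let w : W := ⟨π, Finset.mem_filter.2 ⟨Finset.mem_univ _, mem_Wg_of_monomial C hn hπ,
        fun r => chi_of_conj C hmπ hcm r⟩⟩
      have hh : (nr w)⁻¹ * m ∈ D.diagonalSubgroup K := by
        refine C.G.mem_H_of_nPerm_one (mul_mem (inv_mem (hnrN w)) hmN) ?_
        have := Good.NPerm.mul C.G (Good.NPerm.inv C.G (hnr w)) hmπ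
        rwa [show w.1⁻¹ * π = 1 from inv_mul_cancel π] at this
      have hc : m * (nr w)⁻¹ ∈ D.diagonalSubgroup K := by
        have := (Subgroup.mem_normalizer_iff.1 (C.G.monomial_le_normalizer (hnrN w)) _).1 hh
        simpa [mul_assoc] using this
      exact ⟨⟨(⟨a, ha, hca⟩, ⟨m * (nr w)⁻¹, hc⟩), w, ⟨u, hu, hcu⟩⟩,
        Subtype.ext (Subtype.ext (by simp [Φ, hm, mul_assoc, w]))⟩
  rw [← Nat.card_eq_of_bijective Φ hΦ, Nat.card_prod, Nat.card_prod, Nat.card_sigma, card_fix_pos]
  congr 1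
  rw [Finset.sum_congr rfl fun w _ => card_fix_Uinv C v (hnr w)]
  exact Finset.sum_coe_sort (stab C v) fun π => Fintype.card K ^ (Finset.univ.filter
    fun r : Fin D.nroots =>
      D.IsPosRoot r.val ∧ ¬ D.IsPosRoot (π r).val ∧ C.G.chi v (C.G.rho r) = 1).card

end CfsgLib.Lie.OddInvol
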