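import Cfsg.Agent.Lib.Lie.Chev.OddInvol.Reduce
import Cfsg.Agent.Lib.Lie.Chev.CoxTorus.Setting

/-!
# The diagonal involutions up to conjugacy

They are coded by bit vectors; the simple reflections act on the codes, and a closure of two
codes under this action is computed.
-/

set_option autoImplicit false

namespace CfsgLib.Lie.OddInvol

open Cfsg.Lie CfsgLib.Lie.Chev CfsgLib.Lie.CoxTorus
open scoped MatrixGroups

variable {D : ChevalleyDatum} (C : Full D) {K : Type*} [Field K] [Fintype K]

theorem Cj.symm {u v : GL D.Idx K} (h : Cj D u v) : Cj D v u := by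
  obtain ⟨g, hg, rfl⟩ := h
  exact ⟨g⁻¹, inv_mem hg, by group⟩

theorem Cj.refl (u : GL D.Idx K) : Cj D u u := ⟨1, one_mem _, by group⟩

/-- the sign vector of a code -/
def dec (c : ℕ) : Fin D.rank → Kˣ := fun b => if c.testBit b.val then -1 else 1

/-- the action of a simple reflection on codes -/
def stepCode (msk : List ℕ) (i c : ℕ) : ℕ := if c.testBit i then c ^^^ msk.getD i 0 else c

/-- the table gives the parities of the Cartan matrix -/
def MskOk (D : ChevalleyDatum) (msk : List ℕ) : Prop :=
  ∀ i b : Fin D.rank, (msk.getD i.val 0).testBit b.val = decide (cmat D i b % 2 = 1)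

theorem wc_dec {msk : List ℕ} (hm : MskOk D msk) (i : Fin D.rank) (c : ℕ) :
    C.G.wc i (dec (K := K) c) = dec (stepCode msk i.val c) := by
  funext b
  simp only [Good.wc, dec, cart_eq_cmat C]
  by_cases hi : c.testBit i.val = true
  · have e0 : stepCode msk i.val c = c ^^^ msk.getD i.val 0 := if_pos hi
    simp only [if_pos hi, e0, Nat.testBit_xor, hm i b]
    rcases Int.emod_two_eq_zero_or_one (cmat D i b) with e | e
    · have hev : Even (-cmat D i b) := (Int.even_iff.2 e).neg
      simp [e, hev.neg_one_zpow]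
    · have hod : Odd (-cmat D i b) := (Int.odd_iff.2 e).neg
      cases c.testBit b.val <;> simp [e, hod.neg_one_zpow]
  · have e0 : stepCode msk i.val c = c := if_neg hi
    simp only [if_neg hi, e0, one_zpow, mul_one]

theorem cj_wc (i : Fin D.rank) (v : Fin D.rank → Kˣ) :
    Cj D (C.G.tor v) (C.G.tor (C.G.wc i v)) :=
  ⟨C.G.nU i, mul_mem (mul_mem (C.G.xu_mem _ _) (C.G.xu_mem _ _)) (C.G.xu_mem _ _), by
    rw [C.G.nU_tor, mul_inv_cancel_right]⟩

/-- add the images of one code to the set `M` -/
def growStep (msk : List ℕ) (M : ℕ) (x : ℕ × ℕ) : ℕ :=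
  if M.testBit x.1 then M ||| 2 ^ stepCode msk x.2 x.1 else M

/-- one round over all codes and all reflections -/
def grow (l : ℕ) (msk : List ℕ) (M : ℕ) : ℕ :=
  ((List.range (2 ^ l)).product (List.range l)).foldl (growStep msk) M

theorem close_spec {msk : List ℕ} (hm : MskOk D msk) (r : ℕ) : ∀ (n : ℕ) (c : ℕ),
    ((grow D.rank msk)^[n] (2 ^ r)).testBit c = true →
      Cj D (C.G.tor (dec (K := K) c)) (C.G.tor (dec r)) := by
  intro n
  induction n with
  | zero =>
    intro c hc
    rw [Function.iterate_zero_apply, Nat.testBit_two_pow, decide_eq_true_eq] at hc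
    exact hc ▸ Cj.refl _
  | succ n ih =>
    rw [Function.iterate_succ_apply']
    have key : ∀ (L : List (ℕ × ℕ)), (∀ x ∈ L, x.2 < D.rank) → ∀ M : ℕ,
        (∀ c, M.testBit c = true → Cj D (C.G.tor (dec (K := K) c)) (C.G.tor (dec r))) →
        ∀ c, (L.foldl (growStep msk) M).testBit c = true →
          Cj D (C.G.tor (dec (K := K) c)) (C.G.tor (dec r)) := by
      intro L
      induction L with
      | nil => intro _ M h c hc; exact h c hc
      | cons x L ih' =>
        intro hL M h c hc
        refine ih' (fun y hy => hL y (List.mem_cons_of_mem _ hy)) _ ?_ c hc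
        intro c hc
        rw [growStep] at hc
        split_ifs at hc with hx
        · rw [Nat.testBit_or, Bool.or_eq_true, Nat.testBit_two_pow, decide_eq_true_eq] at hc
          rcases hc with hc | rfl
          · exact h c hc
          · refine Cj.trans (Cj.symm ?_) (h x.1 hx)
            have h1 := cj_wc C ⟨x.2, hL x (by simp)⟩ (dec (K := K) x.1)
            rwa [wc_dec C hm] at h1
        · exact h c hc
    exact key _ (fun x hx => by
      obtain ⟨a, b⟩ := x
      exact List.mem_range.1 (List.pair_mem_product.1 hx).2) _ ih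

theorem exists_code (v : Fin D.rank → Kˣ) (hv : ∀ b, v b = 1 ∨ v b = -1) :
    ∃ c < 2 ^ D.rank, v = dec c := by
  classical
  set f : Fin D.rank → Bool := fun b => decide (v b ≠ 1) with hf
  refine ⟨Nat.ofBits f, Nat.ofBits_lt_two_pow _, funext fun b => ?_⟩
  rw [dec, Nat.testBit_ofBits_lt _ b.val b.isLt]
  by_cases h : v b = 1
  · simp [hf, h]
  · simp [hf, h, (hv b).resolve_left h]

variable {T : KerData D.rank} (hT : T.Ok (cmat D)) (hk : T.k = 0)

include C hT hk in
/-- there are at most two classes of involutions -/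
theorem two_reps (hK : Fintype.card K % 2 = 1) (hI : InvData D) {msk : List ℕ} (hm : MskOk D msk)
    (r s n : ℕ) (hcl : ∀ c < 2 ^ D.rank, c ≠ 0 →
      ((grow D.rank msk)^[n] (2 ^ r)).testBit c = true ∨
      ((grow D.rank msk)^[n] (2 ^ s)).testBit c = true)
    {g : GL D.Idx K} (hg : g ∈ D.group K) (hsq : g * g = 1) (hne : g ≠ 1) :
    Cj D g (C.G.tor (dec r)) ∨ Cj D g (C.G.tor (dec s)) := by
  obtain ⟨d, hd, hgd⟩ := invol_conj_diag C hK hI hg hsq
  obtain ⟨v, rfl⟩ := C.G.exists_tor hd
  have hv : ∀ b, v b = 1 ∨ v b = -1 := fun b => by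
    have h1 := hgd.sq_eq_one hsq
    rw [← map_mul, ← map_one C.G.tor] at h1
    have h2 : ((v b : K)) * v b = 1 := congrArg Units.val (congrFun (tor_inj C h1) b)
    rcases mul_self_eq_one_iff.1 h2 with e | e
    · exact Or.inl (Units.ext e)
    · exact Or.inr (Units.ext e)
  obtain ⟨c, hc, rfl⟩ := exists_code v hv
  have hc0 : c ≠ 0 := by
    rintro rfl
    apply hne
    obtain ⟨x, -, hx⟩ := hgd
    have e : (dec (D := D) (K := K) 0) = 1 := funext fun b => by simp [dec]
    rw [e, map_one] at hx
    rwa [mul_inv_eq_one, mul_eq_left] at hx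
  exact (hcl c hc hc0).imp (fun h => hgd.trans (close_spec C hm r n c h))
    (fun h => hgd.trans (close_spec C hm s n c h))

end CfsgLib.Lie.OddInvol
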