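import Cfsg.Agent.Lib.Lie.Chev.OddInvol.SubPoin
import Cfsg.Agent.Lib.Lie.Chev.GoodG2

/-!
Tables for one class of diagonal involutions of type G2: the roots of even weight, their fundamental
reflections and the cosets.
-/

set_option autoImplicit false
set_option maxRecDepth 100000
set_option maxHeartbeats 1000000

namespace CfsgLib.Lie.OddInvol

open Cfsg.Lie CfsgLib.Lie.Chev

/-- the class 0 of type G2 -/
def subG2_0 : SubData where
  c := 2
  mask := 0x880
  base := [7, 11]
  y := [2, -2]
  z := [[2, -3], [0, 1]]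
  cm := [[2, -3], [-1, 2]]
  W := [[0], [1, 0, 1, 0, 1]]
  T := [0xb0006000800090004000a000100070002000300050000, 0x50003000200070001000a0004000900080006000b]
  split := []

theorem chkG2_0 : subG2_0.chk fastG2 chevG2 = true := by decide +kernel

theorem cmG2_0 : ∀ k j : Fin chevG2.rank, (subG2_0.cm.getD k.val []).getD j.val 0 = cmat chevG2 k j := by
  decide +kernel

theorem cardG2_0 : ((List.range chevG2.nroots).filter fun r => bit subG2_0.mask r).length = 2 := by
  decide +kernel

/-- step 0 -/
def stepG2_0_0 : SubStep where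
  I := [0, 1]
  J := [1]
  PJ := 0x800
  m := 2
  P := (.node 1 (.leaf 0xb000a0009000800070006000500040003000200010000) (.leaf 0xb0006000800090004000a000100070002000300050000))
  par := (.node 1 (.leaf (0, 0)) (.leaf (0, 0)))
  nx := (.node 1 (.leaf [(1, 0), (0, 2)]) (.leaf [(0, 0), (1, 2)]))
  N := [0, 1]

theorem chkStepG2_0_0 : chkSub chevG2 fastG2 subG2_0 stepG2_0_0 = true := by decide +kernel

/-- step 1 -/
def stepG2_0_1 : SubStep where
  I := [1]
  J := []
  PJ := 0x0
  m := 2
  P := (.node 1 (.leaf 0xb000a0009000800070006000500040003000200010000) (.leaf 0x50003000200070001000a0004000900080006000b))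
  par := (.node 1 (.leaf (0, 0)) (.leaf (1, 0)))
  nx := (.node 1 (.leaf [(1, 0)]) (.leaf [(0, 0)]))
  N := [0, 1]

theorem chkStepG2_0_1 : chkSub chevG2 fastG2 subG2_0 stepG2_0_1 = true := by decide +kernel

theorem okG2_0 (G : Good chevG2) (h : ∀ r j, G.rho r j = rhoD chevG2 fastG2 r j) :
    SubOk G fastG2 subG2_0 :=
  subOk G ⟨h, checksG2, cmG2_0, chkG2_0⟩

theorem poinG2_0 (G : Good chevG2) (h : ∀ r j, G.rho r j = rhoD chevG2 fastG2 r j) (q : ℤ) :
    PsumA G subG2_0 (List.range subG2_0.base.length) q * (q - 1) ^ chevG2.rank =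
      (q ^ 2 - 1) * (q ^ 2 - 1) := by
  have hS := okG2_0 G h
  have h0 := PsumA_step G checksG2 hS chkStepG2_0_0 q
  have h1 := PsumA_step G checksG2 hS chkStepG2_0_1 q
  rw [show List.range subG2_0.base.length = stepG2_0_0.I from by decide +kernel]
  rw [h0]
  rw [show stepG2_0_0.J = stepG2_0_1.I from rfl]
  rw [h1]
  rw [show stepG2_0_1.J = [] from rfl, PsumA_nil, show chevG2.rank = 2 from rfl]
  simp only [stepG2_0_0, stepG2_0_1, List.map_cons, List.map_nil, List.sum_cons,
    List.sum_nil]
  ring

end CfsgLib.Lie.OddInvol
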