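import Cfsg.Agent.Lib.Lie.Chev.OddInvol.SubRoots

/-!
# The length generating function inside a parity class

It factors over the cosets of the subgroups generated by some of the reflections.
-/

set_option autoImplicit false

namespace CfsgLib.Lie.OddInvol

open Cfsg.Lie CfsgLib.Lie.Chev

variable {D : ChevalleyDatum}

/-- the data of one step -/
structure SubStep where
  I : List ℕ
  J : List ℕ
  PJ : ℕ
  m : ℕ
  P : Chev.Tree ℕ
  par : Chev.Tree (ℕ × ℕ)
  nx : Chev.Tree (List (ℕ × ℕ))
  N : List ℕ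

/-- the image of a root under a representative -/
noncomputable def SubStep.img (Q : SubStep) (k r : ℕ) : ℕ := digit (Q.P.get k) r

/-- the inversions of a representative inside the class -/
noncomputable def countA (mask h : ℕ) (Q : SubStep) (k : ℕ) : ℕ → ℕ :=
  Nat.rec 0 fun r acc => cond (bit mask r && Nat.blt (Q.img k r) h) 1 0 + acc

/-- the checks of one step -/
noncomputable def chkSub (D : ChevalleyDatum) (f : Fast) (S : SubData) (Q : SubStep) : Bool :=
  let h := D.nroots / 2
  (allList Q.I fun i => Nat.blt i S.base.length) &&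
  (allList Q.J fun j => memB Q.I j) &&
  (allLt D.nroots fun r => cond (bit Q.PJ r) (bit S.mask r) true) &&
  (allList Q.J fun j => let t := S.T.getD j 0; allLt D.nroots fun r =>
    cond (bit Q.PJ r) (bit Q.PJ (digit t r) || bit Q.PJ (f.negs.get (digit t r)))
      (cond (bit S.mask r) (bit S.mask (digit t r) && !(bit Q.PJ (digit t r))) true)) &&
  Nat.blt 0 Q.m && Nat.beq Q.N.length Q.m &&
  (allLt D.nroots fun r => Nat.beq (Q.img 0 r) r) &&
  (allLt Q.m fun k => cond (Nat.beq k 0) true
    (memB Q.I (Q.par.get k).1 && Nat.blt (Q.par.get k).2 k &&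
      allLt D.nroots fun r =>
        Nat.beq (digit (S.T.getD (Q.par.get k).1 0) (Q.img (Q.par.get k).2 r)) (Q.img k r))) &&
  (allLt Q.m fun k => Nat.beq (Q.nx.get k).length Q.I.length &&
    allList (Q.I.zip (Q.nx.get k)) fun x => Nat.blt x.2.1 Q.m &&
      cond (Nat.beq x.2.2 0)
        (allLt D.nroots fun r =>
          Nat.beq (digit (S.T.getD x.1 0) (Q.img k r)) (Q.img x.2.1 r))
        (memB Q.J (x.2.2 - 1) && allLt D.nroots fun r =>
          Nat.beq (digit (S.T.getD x.1 0) (Q.img k r))
            (Q.img x.2.1 (digit (S.T.getD (x.2.2 - 1) 0) r)))) &&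
  (allLt Q.m fun k => allLt D.nroots fun r => cond (bit Q.PJ r) (Nat.ble h (Q.img k r)) true) &&
  (allLt Q.m fun k => Nat.beq (countA S.mask h Q k D.nroots) (Q.N.getD k 0)) &&
  (allLt Q.m fun k => allLt k fun k' =>
    !(allLt D.nroots fun r => Nat.beq (Q.img k r) (Q.img k' r)))

/-- the group generated by some of the reflections -/
def TG (D : ChevalleyDatum) (S : SubData) (I : List ℕ) : Subgroup (Equiv.Perm (Fin D.nroots)) :=
  Subgroup.closure {t | ∃ k ∈ I, k < S.base.length ∧
    ∀ r : Fin D.nroots, (t r).val = digit (S.T.getD k 0) r.val}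

open scoped Classical in
/-- the length generating function of the group generated by some of the reflections -/
noncomputable def PsumA (G : Good D) (S : SubData) (I : List ℕ) {R : Type*} [CommSemiring R]
    (q : R) : R :=
  ∑ π ∈ Finset.univ.filter (· ∈ TG D S I), q ^ ninvA G S.c π

variable (G : Good D) {f : Fast} {S : SubData}

theorem ninvA_one (c : ℕ) : ninvA G c 1 = 0 := by
  classical
  rw [ninvA, Finset.card_eq_zero, Finset.filter_eq_empty_iff]
  rintro r - ⟨h1, h2⟩
  exact h2 h1.1

theorem PsumA_nil {R : Type*} [CommSemiring R] (q : R) : PsumA G S [] q = 1 := by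
  classical
  have h : ∀ π, π ∈ TG D S [] ↔ π = 1 := by
    intro π
    have : {t : Equiv.Perm (Fin D.nroots) | ∃ k ∈ ([] : List ℕ), k < S.base.length ∧
      ∀ r : Fin D.nroots, (t r).val = digit (S.T.getD k 0) r.val} = ∅ := by ext; simp
    rw [TG, this, Subgroup.closure_empty, Subgroup.mem_bot]
  simp [PsumA, h, Finset.filter_eq', ninvA_one]

theorem TG_le_stab (hS : SubOk G f S) (I : List ℕ) {π : Equiv.Perm (Fin D.nroots)}
    (hπ : π ∈ TG D S I) : π ∈ stabC G S.c := by
  induction hπ using Subgroup.closure_induction with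
  | one => exact stabC_one G _
  | mul a b _ _ ha hb => exact stabC_mul G ha hb
  | inv a _ ha => exact stabC_inv G ha
  | mem x hx =>
    obtain ⟨k, -, hk, hx⟩ := hx
    obtain ⟨t, ht, htr, -⟩ := hS.refl k hk
    rwa [show x = t from Equiv.ext fun r => Fin.ext (by rw [hx, htr])]

theorem pos_of_base (hS : SubOk G f S) {π : Equiv.Perm (Fin D.nroots)} (hπ : π ∈ stabC G S.c)
    (h : ∀ r : Fin D.nroots, r.val ∈ S.base → D.IsPosRoot (π r).val) :
    ∀ (n : ℕ) (r : Fin D.nroots), r.val = n → PA G S.c r → PA G S.c (π r) := by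
  classical
  obtain ⟨hπW, hπc⟩ := (Finset.mem_filter.1 hπ).2
  intro n
  induction n using Nat.strong_induction_on with
  | _ n ih =>
    intro r hn hr
    refine ⟨?_, (hπc r).2 hr.2⟩
    by_cases hb : r.val ∈ S.base
    · exact h r hb
    · obtain ⟨s, t, hs, hsp, htb, e⟩ := hS.split r hr hb
      have h1 := (ih s.val (hn ▸ Fin.lt_def.1 hs) s rfl hsp).1
      have h2 := h t htb
      rw [G.isPosRoot_iff] at h1 h2 ⊢
      rw [perm_add G hπW e, G.ht_add]
      exact add_pos h1 h2

theorem mem_TG_top (hS : SubOk G f S) : ∀ (n : ℕ) (π : Equiv.Perm (Fin D.nroots)),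
    π ∈ stabC G S.c → ninvA G S.c π = n → π ∈ TG D S (List.range S.base.length) := by
  classical
  intro n
  induction n using Nat.strong_induction_on with
  | _ n ih =>
    intro π hπ hn
    by_cases h : ∀ r : Fin D.nroots, r.val ∈ S.base → D.IsPosRoot (π r).val
    · rw [hS.finger π hπ fun r hr => pos_of_base G hS hπ h r.val r rfl hr]
      exact one_mem _
    · push Not at h
      obtain ⟨b, hb, hneg⟩ := h
      obtain ⟨k, hk, hkb⟩ := List.getElem_of_mem hb
      obtain ⟨t, ht, htr, htt, hlt, htb, htp⟩ := hS.refl k hk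
      have hkb' : S.base.getD k 0 = b.val := (List.getD_eq_getElem _ _ hk).trans hkb
      have hbe : (⟨S.base.getD k 0, hlt⟩ : Fin D.nroots) = b := Fin.ext hkb'
      rw [hbe] at htb
      have htm : t ∈ TG D S (List.range S.base.length) :=
        Subgroup.subset_closure ⟨k, List.mem_range.2 hk, hk, htr⟩
      have hbPA : PA G S.c b := (hS.base_pa _ hb).choose_spec
      have hlt2 : ninvA G S.c (π * t) < n := by
        rw [← hn, ninvA, ninvA, ← Finset.card_image_of_injective _ t.injective]
        refine Finset.card_lt_card (Finset.ssubset_iff_of_subset ?_ |>.2 ⟨b, ?_, ?_⟩)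
        · intro x hx
          obtain ⟨r, hr, rfl⟩ := Finset.mem_image.1 hx
          obtain ⟨-, hr1, hr2⟩ := Finset.mem_filter.1 hr
          rw [Equiv.Perm.mul_apply] at hr2
          refine Finset.mem_filter.2 ⟨Finset.mem_univ _, htp r hr1 fun e => ?_, hr2⟩
          have hrb : r = b := Fin.ext (e.trans hkb')
          subst hrb
          apply hr2
          rw [htb, G.negr_WJ (Finset.mem_filter.1 hπ).2.1]
          exact (G.negr_pos_iff _).2 hneg
        · exact Finset.mem_filter.2 ⟨Finset.mem_univ _, hbPA, hneg⟩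
        · rw [Finset.mem_image]
          rintro ⟨r, hr, e⟩
          have h1 := (Finset.mem_filter.1 hr).2.1.1
          rw [← htt r, e, htb, G.negr_pos_iff] at h1
          exact h1 hbPA.1
      have := ih _ hlt2 (π * t) (stabC_mul G hπ ht) rfl
      have e : π = π * t * t := by
        rw [mul_assoc, show t * t = 1 from Equiv.ext htt, mul_one]
      rw [e]
      exact mul_mem this htm

theorem sum_stab (hS : SubOk G f S) {R : Type*} [CommSemiring R] (q : R) :
    ∑ π ∈ stabC G S.c, q ^ ninvA G S.c π = PsumA G S (List.range S.base.length) q := by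
  classical
  rw [PsumA]
  refine Finset.sum_congr (Finset.ext fun π => ?_) fun _ _ => rfl
  simp only [Finset.mem_filter, Finset.mem_univ, true_and]
  exact ⟨fun h => mem_TG_top G hS _ π h rfl, TG_le_stab G hS _⟩

theorem countA_eq (hS : SubOk G f S) (Q : SubStep) {k : ℕ} (π : Equiv.Perm (Fin D.nroots))
    (hπ : ∀ r : Fin D.nroots, (π r).val = Q.img k r.val) :
    countA S.mask (D.nroots / 2) Q k D.nroots = ninvA G S.c π := by
  classical
  have e : ∀ n, countA S.mask (D.nroots / 2) Q k n = ((Finset.range n).filter fun r =>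
      bit S.mask r = true ∧ Q.img k r < D.nroots / 2).card := by
    intro n
    induction n with
    | zero => rfl
    | succ n ih =>
      show cond (bit S.mask n && Nat.blt (Q.img k n) (D.nroots / 2)) 1 0 +
        countA S.mask (D.nroots / 2) Q k n = _
      rw [Finset.range_add_one, Finset.filter_insert, ih]
      by_cases hlt : bit S.mask n = true ∧ Q.img k n < D.nroots / 2
      · rw [if_pos hlt, hlt.1, natBlt_true hlt.2, Bool.true_and, cond_true,
          Finset.card_insert_of_notMem (by simp)]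
        omega
      · rw [if_neg hlt]
        have : (bit S.mask n && Nat.blt (Q.img k n) (D.nroots / 2)) = false := by
          rw [Bool.eq_false_iff, Ne, Bool.and_eq_true, Nat.blt_eq]
          exact hlt
        rw [this, cond_false, zero_add]
  rw [e, ninvA]
  symm
  refine Finset.card_bij (fun r _ => r.val) ?_ (fun r _ s _ h => Fin.ext h) ?_
  · intro r hr
    simp only [Finset.mem_filter, Finset.mem_univ, true_and, Finset.mem_range] at hr ⊢
    rw [G.pos_iff_half, hπ, not_le] at hr
    exact ⟨r.isLt, (hS.mask r).2 hr.1, hr.2⟩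
  · intro i hi
    simp only [Finset.mem_filter, Finset.mem_range] at hi
    refine ⟨⟨i, hi.1⟩, ?_, rfl⟩
    simp only [Finset.mem_filter, Finset.mem_univ, true_and]
    rw [G.pos_iff_half, hπ, not_le]
    exact ⟨(hS.mask _).1 hi.2.1, hi.2.2⟩

theorem PsumA_step (hc : Checks D f) (hS : SubOk G f S) {Q : SubStep}
    (hQ : chkSub D f S Q = true) {R : Type*} [CommSemiring R] (q : R) :
    PsumA G S Q.I q = (Q.N.map fun a => q ^ a).sum * PsumA G S Q.J q := by
  classical
  simp only [chkSub, Bool.and_eq_true, Nat.blt_eq, Nat.beq_eq] at hQ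
  obtain ⟨⟨⟨⟨⟨⟨⟨⟨⟨⟨⟨hI, hJ⟩, hPJ⟩, hJt⟩, hm⟩, hN⟩, h0⟩, hpar⟩, hnx⟩, hpos⟩, hcnt⟩, hdist⟩ := hQ
  have hIlt : ∀ i ∈ Q.I, i < S.base.length := fun i hi => Nat.blt_eq.mp (allList_spec hI i hi)
  have hJI : ∀ j ∈ Q.J, j ∈ Q.I := fun j hj => memB_spec (allList_spec hJ j hj)
  have hle : TG D S Q.J ≤ TG D S Q.I := Subgroup.closure_mono fun t ⟨k, hk, h⟩ => ⟨k, hJI k hk, h⟩
  have hgen : ∀ i ∈ Q.I, ∃ t ∈ TG D S Q.I,
      ∀ r : Fin D.nroots, (t r).val = digit (S.T.getD i 0) r.val := fun i hi => by
    obtain ⟨t, -, htr, -⟩ := hS.refl i (hIlt i hi)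
    exact ⟨t, Subgroup.subset_closure ⟨i, hi, hIlt i hi, htr⟩, htr⟩
  have hW : ∀ {I : List ℕ} {v : Equiv.Perm (Fin D.nroots)}, v ∈ TG D S I → v ∈ G.Wg :=
    fun hv => (Finset.mem_filter.1 (TG_le_stab G hS _ hv)).2.1
  have hPA : ∀ r : Fin D.nroots, bit Q.PJ r.val = true → PA G S.c r := fun r hr => by
    have := allLt_spec hPJ r.val r.isLt
    rw [hr, cond_true] at this
    exact (hS.mask r).1 this
  -- the subgroup keeps the part and the complement
  set In : Fin D.nroots → Prop := fun r => bit Q.PJ r.val = true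
  set Out : Fin D.nroots → Prop := fun r => PA G S.c r ∧ ¬ In r
  have hkeep : ∀ v ∈ TG D S Q.J, (∀ r, In r → In (v r) ∨ In (G.negr (v r))) ∧
      ∀ r, Out r → Out (v r) := by
    have hgenJ : ∀ t, (∃ k ∈ Q.J, k < S.base.length ∧
        ∀ r : Fin D.nroots, (t r).val = digit (S.T.getD k 0) r.val) →
        t ∈ G.Wg ∧ (t⁻¹ = t) ∧ (∀ r, In r → In (t r) ∨ In (G.negr (t r))) ∧
          ∀ r, Out r → Out (t r) := by
      rintro t ⟨k, hk, hkl, htr⟩
      obtain ⟨t', ht', htr', htt', -⟩ := hS.refl k hkl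
      have ett : t = t' := Equiv.ext fun r => Fin.ext (by rw [htr, htr'])
      subst ett
      refine ⟨(Finset.mem_filter.1 ht').2.1,
        inv_eq_of_mul_eq_one_right (Equiv.ext htt'), fun r hr => ?_, fun r hr => ?_⟩
      · have := allLt_spec (allList_spec hJt k hk) r.val r.isLt
        rw [show bit Q.PJ r.val = true from hr, cond_true, Bool.or_eq_true, ← htr,
          ← negr_val' G hc] at this
        exact this
      · have := allLt_spec (allList_spec hJt k hk) r.val r.isLt
        rw [Bool.eq_false_iff.2 hr.2, cond_false, (hS.mask r).2 hr.1, cond_true, ← htr,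
          Bool.and_eq_true, Bool.not_eq_true'] at this
        exact ⟨(hS.mask _).1 this.1, fun h => Bool.false_ne_true (this.2.symm.trans h)⟩
    intro v hv
    induction hv using Subgroup.closure_induction_left with
    | one => exact ⟨fun r hr => Or.inl hr, fun r hr => hr⟩
    | mul_left x hx y _ ih =>
      obtain ⟨hxW, -, hx1, hx2⟩ := hgenJ x hx
      refine ⟨fun r hr => ?_, fun r hr => hx2 _ (ih.2 r hr)⟩
      rcases ih.1 r hr with h | h
      · exact hx1 _ h
      · have := hx1 _ h
        rw [G.negr_WJ hxW, G.negr_negr] at this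
        exact this.symm
    | inv_mul_cancel x hx y _ ih =>
      obtain ⟨hxW, hxi, hx1, hx2⟩ := hgenJ x hx
      rw [hxi]
      refine ⟨fun r hr => ?_, fun r hr => hx2 _ (ih.2 r hr)⟩
      rcases ih.1 r hr with h | h
      · exact hx1 _ h
      · have := hx1 _ h
        rw [G.negr_WJ hxW, G.negr_negr] at this
        exact this.symm
  -- the representatives
  have hex : ∀ k, k < Q.m → ∃ π ∈ TG D S Q.I, ∀ r : Fin D.nroots, (π r).val = Q.img k r.val := by
    intro k
    induction k using Nat.strong_induction_on with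
    | _ k ih =>
      intro hk
      by_cases hk0 : k = 0
      · subst hk0
        exact ⟨1, one_mem _, fun r => (Nat.eq_of_beq_eq_true (allLt_spec h0 r.val r.isLt)).symm⟩
      · have := allLt_spec hpar k hk
        rw [natBeq_false hk0, cond_false] at this
        simp only [Bool.and_eq_true, Nat.blt_eq] at this
        obtain ⟨⟨hi, hk'⟩, he⟩ := this
        obtain ⟨π, hπ, hπr⟩ := ih _ hk' (hk'.trans hk)
        obtain ⟨t, ht, htr⟩ := hgen _ (memB_spec hi)
        refine ⟨t * π, mul_mem ht hπ, fun r => ?_⟩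
        rw [Equiv.Perm.mul_apply, htr, hπr]
        exact Nat.eq_of_beq_eq_true (allLt_spec he r.val r.isLt)
  let u : Fin Q.m → Equiv.Perm (Fin D.nroots) := fun k => (hex k.val k.isLt).choose
  have hu : ∀ k r, (u k r).val = Q.img k.val r.val := fun k => (hex k.val k.isLt).choose_spec.2
  have huI : ∀ k, u k ∈ TG D S Q.I := fun k => (hex k.val k.isLt).choose_spec.1
  have hinj : Function.Injective u := by
    intro a b e
    by_contra hne
    rcases Nat.lt_or_gt_of_ne (fun h => hne (Fin.ext h)) with l | l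
    · have := allLt_spec (allLt_spec hdist b.val b.isLt) a.val l
      rw [allLt_eq_true (fun r hr => natBeq_true (by rw [← hu b ⟨r, hr⟩, ← hu a ⟨r, hr⟩, e]))] at this
      exact Bool.false_ne_true this
    · have := allLt_spec (allLt_spec hdist a.val a.isLt) b.val l
      rw [allLt_eq_true (fun r hr => natBeq_true (by rw [← hu b ⟨r, hr⟩, ← hu a ⟨r, hr⟩, e]))] at this
      exact Bool.false_ne_true this
  have hupos : ∀ k r, In r → D.IsPosRoot (u k r).val := by
    intro k r hr
    rw [G.pos_iff_half, hu]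
    have := allLt_spec (allLt_spec hpos k.val k.isLt) r.val r.isLt
    rw [show bit Q.PJ r.val = true from hr, cond_true] at this
    exact Nat.le_of_ble_eq_true this
  have huneg : ∀ k r, In (G.negr r) → ¬ D.IsPosRoot r.val ∧ ¬ D.IsPosRoot (u k r).val := by
    intro k r hr
    refine ⟨(G.negr_pos_iff r).1 (hPA _ hr).1, ?_⟩
    have h1 := hupos k _ hr
    rw [G.negr_WJ (hW (huI k)), G.negr_pos_iff] at h1
    exact h1
  have hsurj : ∀ π ∈ TG D S Q.I, ∃ k, ∃ v ∈ TG D S Q.J, π = u k * v := by
    have hcl : ∀ (k : Fin Q.m) (t : Equiv.Perm (Fin D.nroots)),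
        (∃ i ∈ Q.I, i < S.base.length ∧ ∀ r : Fin D.nroots, (t r).val = digit (S.T.getD i 0) r.val) →
        ∃ k', ∃ v ∈ TG D S Q.J, t * u k = u k' * v := by
      rintro k t ⟨i, hi, -, htr⟩
      have := allLt_spec hnx k.val k.isLt
      simp only [Bool.and_eq_true, Nat.beq_eq] at this
      obtain ⟨hl, hz⟩ := this
      obtain ⟨a, ha, hai⟩ := List.getElem_of_mem hi
      have hmem : (i, (Q.nx.get k.val)[a]'(by omega)) ∈ Q.I.zip (Q.nx.get k.val) := by
        rw [List.mem_iff_getElem]
        exact ⟨a, by rw [List.length_zip]; omega, by rw [List.getElem_zip, hai]⟩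
      have hx := allList_spec hz _ hmem
      generalize (Q.nx.get k.val)[a]'(by omega) = x at hx
      simp only [Bool.and_eq_true, Nat.blt_eq] at hx
      obtain ⟨hk', hcase⟩ := hx
      by_cases hj0 : x.2 = 0
      · rw [natBeq_true hj0, cond_true] at hcase
        refine ⟨⟨x.1, hk'⟩, 1, one_mem _, Equiv.ext fun r => Fin.ext ?_⟩
        rw [mul_one, Equiv.Perm.mul_apply, htr, hu, hu]
        exact Nat.eq_of_beq_eq_true (allLt_spec hcase r.val r.isLt)
      · rw [natBeq_false hj0, cond_false] at hcase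
        simp only [Bool.and_eq_true] at hcase
        have hjm := memB_spec hcase.1
        have hjl := hIlt _ (hJI _ hjm)
        obtain ⟨t', -, htr', -⟩ := hS.refl _ hjl
        refine ⟨⟨x.1, hk'⟩, t', Subgroup.subset_closure ⟨_, hjm, hjl, htr'⟩,
          Equiv.ext fun r => Fin.ext ?_⟩
        rw [Equiv.Perm.mul_apply, Equiv.Perm.mul_apply, htr, hu, hu, htr']
        exact Nat.eq_of_beq_eq_true (allLt_spec hcase.2 r.val r.isLt)
    intro π hπ
    induction hπ using Subgroup.closure_induction_left with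
    | one =>
      exact ⟨⟨0, hm⟩, 1, one_mem _, by
        rw [mul_one]
        exact Equiv.ext fun r => Fin.ext
          ((Nat.eq_of_beq_eq_true (allLt_spec h0 r.val r.isLt)).symm.trans (hu ⟨0, hm⟩ r).symm)⟩
    | mul_left x hx y _ ih =>
      obtain ⟨k, v, hv, rfl⟩ := ih
      obtain ⟨k', v', hv', e⟩ := hcl k x hx
      exact ⟨k', v' * v, mul_mem hv' hv, by rw [← mul_assoc, e, mul_assoc]⟩
    | inv_mul_cancel x hx y _ ih =>
      obtain ⟨k, v, hv, rfl⟩ := ih
      obtain ⟨k', v', hv', e⟩ := hcl k x hx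
      obtain ⟨i, -, hil, htr⟩ := hx
      obtain ⟨t', -, htr', htt', -⟩ := hS.refl i hil
      have ett : x⁻¹ = x := inv_eq_of_mul_eq_one_right (Equiv.ext fun r => by
        rw [Equiv.Perm.mul_apply, show x = t' from Equiv.ext fun r => Fin.ext (by rw [htr, htr'])]
        exact htt' r)
      exact ⟨k', v' * v, mul_mem hv' hv, by rw [ett, ← mul_assoc, e, mul_assoc]⟩
  have hinj2 : ∀ k k', ∀ v ∈ TG D S Q.J, ∀ v' ∈ TG D S Q.J, u k * v = u k' * v' → k = k' ∧ v = v' := by
    intro k k' v hv v' hv' e
    have hw : v * v'⁻¹ ∈ TG D S Q.J := mul_mem hv (inv_mem hv')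
    have e2 : u k' = u k * (v * v'⁻¹) := by rw [← mul_assoc, e, mul_inv_cancel_right]
    have hst := TG_le_stab G hS _ hw
    have h1 : v * v'⁻¹ = 1 := by
      refine hS.finger _ hst fun r hr => ⟨?_, ((Finset.mem_filter.1 hst).2.2 r).2 hr.2⟩
      by_cases hin : In r
      · rcases (hkeep _ hw).1 r hin with h | h
        · exact (hPA _ h).1
        · exact absurd (by rw [← Equiv.Perm.mul_apply, ← e2]; exact hupos k' r hin) (huneg k _ h).2
      · exact ((hkeep _ hw).2 r ⟨hr, hin⟩).1.1
    rw [h1, mul_one] at e2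
    exact ⟨(hinj e2).symm, mul_inv_eq_one.1 h1⟩
  have hadd : ∀ k, ∀ v ∈ TG D S Q.J,
      ninvA G S.c (u k * v) = ninvA G S.c (u k) + ninvA G S.c v := by
    intro k v hv
    set A := Finset.univ.filter fun r : Fin D.nroots =>
      PA G S.c r ∧ ¬ D.IsPosRoot ((u k * v) r).val
    have hA1 : A.filter In = Finset.univ.filter fun r : Fin D.nroots =>
        PA G S.c r ∧ ¬ D.IsPosRoot (v r).val := by
      ext r
      simp only [A, Finset.mem_filter, Finset.mem_univ, true_and]
      rw [Equiv.Perm.mul_apply]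
      constructor
      · rintro ⟨⟨h1, h2⟩, h3⟩
        rcases (hkeep v hv).1 r h3 with h | h
        · exact absurd (hupos k _ h) h2
        · exact ⟨h1, (huneg k _ h).1⟩
      · rintro ⟨h1, h2⟩
        have h3 : In r := by
          by_contra h3
          exact h2 ((hkeep v hv).2 r ⟨h1, h3⟩).1.1
        refine ⟨⟨h1, ?_⟩, h3⟩
        rcases (hkeep v hv).1 r h3 with h | h
        · exact absurd (hPA _ h).1 h2
        · exact (huneg k _ h).2
    have hA2 : (A.filter fun r => ¬ In r).card = (Finset.univ.filter fun r : Fin D.nroots =>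
        PA G S.c r ∧ ¬ D.IsPosRoot (u k r).val).card := by
      rw [← Finset.card_image_of_injective _ v.injective]
      congr 1
      ext s
      simp only [A, Finset.mem_image, Finset.mem_filter, Finset.mem_univ, true_and]
      constructor
      · rintro ⟨r, ⟨⟨h1, h2⟩, h3⟩, rfl⟩
        exact ⟨((hkeep v hv).2 r ⟨h1, h3⟩).1, by rwa [Equiv.Perm.mul_apply] at h2⟩
      · rintro ⟨h1, h2⟩
        have h3 : Out s := ⟨h1, fun h => h2 (hupos k s h)⟩
        have h4 := (hkeep _ (inv_mem hv)).2 s h3
        refine ⟨v⁻¹ s, ⟨⟨h4.1, ?_⟩, h4.2⟩, v.apply_symm_apply s⟩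
        rwa [Equiv.Perm.mul_apply, show v (v⁻¹ s) = s from v.apply_symm_apply s]
    show A.card = _
    rw [← Finset.card_filter_add_card_filter_not (s := A) In, hA1, hA2, add_comm]
    rfl
  have hNe : Q.N = List.ofFn fun k : Fin Q.m => ninvA G S.c (u k) := by
    refine List.ext_getElem (by simp [hN]) fun i h1 h2 => ?_
    rw [List.getElem_ofFn, ← countA_eq G hS Q (u ⟨i, by omega⟩) (hu _),
      Nat.eq_of_beq_eq_true (allLt_spec hcnt i (by omega)), List.getD_eq_getElem _ _ h1]
  rw [hNe, List.map_ofFn, List.sum_ofFn, PsumA, PsumA, Finset.sum_mul_sum, ← Finset.sum_product']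
  symm
  refine Finset.sum_bij (fun x _ => u x.1 * x.2) ?_ ?_ ?_ ?_
  · intro x hx
    simp only [Finset.mem_product, Finset.mem_univ, Finset.mem_filter, true_and] at hx ⊢
    exact mul_mem (huI _) (hle hx)
  · intro x hx y hy e
    simp only [Finset.mem_product, Finset.mem_univ, Finset.mem_filter, true_and] at hx hy
    obtain ⟨e1, e2⟩ := hinj2 _ _ _ hx _ hy e
    exact Prod.ext e1 e2
  · intro π hπ
    simp only [Finset.mem_filter, Finset.mem_univ, true_and] at hπ
    obtain ⟨k, v, hv, rfl⟩ := hsurj π hπ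
    exact ⟨(k, v), by simpa using hv, rfl⟩
  · intro x hx
    simp only [Finset.mem_product, Finset.mem_univ, Finset.mem_filter, true_and] at hx
    rw [hadd x.1 x.2 hx, pow_add]
    rfl

end CfsgLib.Lie.OddInvol
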