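import Cfsg.Agent.Lib.Lie.Chev.OddInvol.Classes
import Cfsg.Agent.Lib.Lie.Chev.OddInvol.Centraliser
import Cfsg.Agent.Lib.Lie.Chev.OddInvol.SubPoin
import Mathlib.GroupTheory.OrderOfElement

/-!
# Involution classes and centraliser orders
-/

set_option autoImplicit false

namespace CfsgLib.Lie.OddInvol

open Cfsg.Lie CfsgLib.Lie.Chev CfsgLib.Lie.CoxTorus
open scoped MatrixGroups

variable {D : ChevalleyDatum} (C : Full D) {K : Type*} [Field K] [Fintype K]

theorem neg_one_ne_one (hK : Fintype.card K % 2 = 1) : (-1 : Kˣ) ≠ 1 := by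
  intro h
  have h1 : (-1 : K) = 1 := by simpa using congrArg Units.val h
  haveI := Fact.mk (CharP.char_is_prime K (ringChar K))
  refine Ring.neg_one_ne_one_of_char_ne_two (R := K) ?_ h1
  intro e
  rw [FiniteField.even_card_iff_char_two] at e
  omega

omit [Fintype K] in
theorem chi_dec (c : ℕ) (r : Fin D.nroots) :
    C.G.chi (dec (K := K) c) (C.G.rho r) =
      (-1 : Kˣ) ^ (∑ j : Fin D.rank, if c.testBit j.val then C.G.rho r j else 0) := by
  simp only [Good.chi, dec]
  induction (Finset.univ : Finset (Fin D.rank)) using Finset.induction with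
  | empty => simp
  | insert a s ha ih =>
    rw [Finset.prod_insert ha, Finset.sum_insert ha, zpow_add, ih]
    by_cases h : c.testBit a.val = true
    · rw [if_pos h, if_pos h]
    · rw [if_neg h, if_neg h, one_zpow, zpow_zero]

theorem chi_dec_one (hK : Fintype.card K % 2 = 1) (c : ℕ) (r : Fin D.nroots) :
    C.G.chi (dec (K := K) c) (C.G.rho r) = 1 ↔ inPhi C.G c r := by
  rw [chi_dec, inPhi]
  constructor
  · intro h
    by_contra ho
    rw [Int.not_even_iff_odd] at ho
    rw [ho.neg_one_zpow] at h
    exact neg_one_ne_one hK h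
  · exact fun h => h.neg_one_zpow

theorem chi_dec_eq (hK : Fintype.card K % 2 = 1) (c : ℕ) (r s : Fin D.nroots) :
    C.G.chi (dec (K := K) c) (C.G.rho r) = C.G.chi (dec (K := K) c) (C.G.rho s) ↔
      (inPhi C.G c r ↔ inPhi C.G c s) := by
  rw [← chi_dec_one C hK c r, ← chi_dec_one C hK c s]
  have h : ∀ t, C.G.chi (dec (K := K) c) (C.G.rho t) = 1 ∨
      C.G.chi (dec (K := K) c) (C.G.rho t) = -1 := fun t => by
    rw [chi_dec]
    rcases Int.even_or_odd (∑ j : Fin D.rank, if c.testBit j.val then C.G.rho t j else 0) with e | e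
    · exact Or.inl e.neg_one_zpow
    · exact Or.inr e.neg_one_zpow
  have hne := neg_one_ne_one (K := K) hK
  rcases h r with a | a <;> rcases h s with b | b <;> simp [a, b, hne, hne.symm]

variable {T : KerData D.rank} (hT : T.Ok (cmat D)) (hk : T.k = 0)

include C hT hk in
theorem dec_mem (c : ℕ) : C.G.tor (dec (K := K) c) ∈ D.group K :=
  C.G.monomial_le_group (C.G.H_le_monomial (tor_mem C hT hk _))

/-- the element of a code -/
noncomputable def elt (c : ℕ) : ↥(D.group K) := ⟨C.G.tor (dec c), dec_mem C hT hk c⟩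

theorem orderOf_elt (hK : Fintype.card K % 2 = 1) (c : ℕ) (hc : ∃ b : Fin D.rank, c.testBit b.val = true) :
    orderOf (elt C (K := K) hT hk c) = 2 := by
  refine orderOf_eq_prime (hp := Fact.mk Nat.prime_two) ?_ ?_
  · refine Subtype.ext ?_
    show ((elt C (K := K) hT hk c) ^ 2 : ↥(D.group K)).1 = 1
    rw [SubmonoidClass.coe_pow, sq]
    show C.G.tor (dec c) * C.G.tor (dec c) = 1
    rw [← map_mul, show dec (D := D) (K := K) c * dec c = 1 from funext fun b => by
      simp only [Pi.mul_apply, Pi.one_apply, dec]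
      split_ifs <;> simp, map_one]
  · intro h
    obtain ⟨b, hb⟩ := hc
    have h1 : C.G.tor (dec (K := K) c) = C.G.tor 1 := by
      rw [map_one]; exact congrArg Subtype.val h
    have h2 := congrFun (tor_inj C h1) b
    rw [dec, if_pos hb] at h2
    exact neg_one_ne_one hK h2

open scoped Classical in
theorem card_cent_elt (hK : Fintype.card K % 2 = 1) {f : Fast} {S : SubData} (hS : SubOk C.G f S) :
    Nat.card (Subgroup.centralizer ({elt C (K := K) hT hk S.c} : Set ↥(D.group K))) =
      Fintype.card K ^ ((List.range D.nroots).filter fun r => bit S.mask r).length *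
        (Fintype.card K - 1) ^ D.rank *
          PsumA C.G S (List.range S.base.length) (Fintype.card K) := by
  have h := card_centralizer C (dec (K := K) S.c) (tor_mem C hT hk _)
  rw [show elt C (K := K) hT hk S.c = ⟨C.G.tor (dec S.c),
    C.G.monomial_le_group (C.G.H_le_monomial (tor_mem C hT hk _))⟩ from rfl, h,
    card_diag_eq C hT hk, ← sum_stab C.G hS]
  congr 1
  · congr 2
    rw [← List.toFinset_card_of_nodup (List.nodup_range.filter _)]
    refine Finset.card_bij (fun r _ => r.val) ?_ (fun r _ s _ e => Fin.ext e) ?_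
    · intro r hr
      obtain ⟨-, h1, h2⟩ := Finset.mem_filter.1 hr
      simp [hS.mask r, PA, h1, (chi_dec_one C hK S.c r).1 h2]
    · intro i hi
      simp only [List.mem_toFinset, List.mem_filter, List.mem_range] at hi
      obtain ⟨h1, h2⟩ := (hS.mask ⟨i, hi.1⟩).1 hi.2
      exact ⟨⟨i, hi.1⟩, Finset.mem_filter.2 ⟨Finset.mem_univ _, h1, (chi_dec_one C hK S.c _).2 h2⟩, rfl⟩
  · refine Finset.sum_congr ?_ fun π _ => congrArg _ ?_
    · ext π
      simp only [stab, stabC, Finset.mem_filter, Finset.mem_univ, true_and, chi_dec_eq C hK]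
    · rw [ninvA]
      congr 1
      ext r
      simp only [Finset.mem_filter, Finset.mem_univ, true_and]
      simp only [chi_dec_one C hK, PA]
      tauto

/-- the centraliser order from a factorisation of the length function -/
theorem card_cent_of_poly (hK : Fintype.card K % 2 = 1) {f : Fast} {S : SubData}
    (hS : SubOk C.G f S) {N : ℕ} (hN : ((List.range D.nroots).filter fun r => bit S.mask r).length = N)
    {P : ℤ → ℤ} (hP : ∀ q : ℤ, PsumA C.G S (List.range S.base.length) q * (q - 1) ^ D.rank = P q) :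
    (Nat.card (Subgroup.centralizer ({elt C (K := K) hT hk S.c} : Set ↥(D.group K))) : ℤ) =
      (Fintype.card K : ℤ) ^ N * P (Fintype.card K) := by
  classical
  rw [card_cent_elt C hT hk hK hS, hN, ← hP]
  push_cast [Fintype.card_pos]
  rw [show ((PsumA C.G S (List.range S.base.length) (Fintype.card K) : ℕ) : ℤ) =
    PsumA C.G S (List.range S.base.length) (Fintype.card K : ℤ) by simp [PsumA]]
  ring

include C hT hk in
theorem isConj_or (hK : Fintype.card K % 2 = 1) (hI : InvData D) {msk : List ℕ} (hm : MskOk D msk)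
    (r s n : ℕ) (hcl : ∀ c < 2 ^ D.rank, c ≠ 0 →
      ((grow D.rank msk)^[n] (2 ^ r)).testBit c = true ∨
      ((grow D.rank msk)^[n] (2 ^ s)).testBit c = true)
    {u : ↥(D.group K)} (hu : orderOf u = 2) :
    IsConj u (elt C hT hk r) ∨ IsConj u (elt C hT hk s) := by
  have hsq : (u : GL D.Idx K) * u = 1 := by
    have h := pow_orderOf_eq_one u
    rw [hu, sq] at h
    exact congrArg Subtype.val h
  have hne : (u : GL D.Idx K) ≠ 1 := fun e => by
    rw [show u = 1 from Subtype.ext e, orderOf_one] at hu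
    omega
  refine (two_reps C hT hk hK hI hm r s n hcl u.2 hsq hne).imp ?_ ?_ <;>
    · rintro ⟨g, hg, e⟩
      exact isConj_iff.2 ⟨⟨g, hg⟩, Subtype.ext e⟩

open scoped Classical in
theorem not_isConj (hK : Fintype.card K % 2 = 1) {r s : ℕ}
    (hne : (Finset.univ.filter (inPhi C.G r)).card ≠ (Finset.univ.filter (inPhi C.G s)).card) :
    ¬ IsConj (elt C (K := K) hT hk r) (elt C hT hk s) := by
  intro h
  obtain ⟨g, hg⟩ := isConj_iff.1 h
  have e : (g : GL D.Idx K) * C.G.tor (dec (K := K) r) = C.G.tor (dec (K := K) s) * (g : GL D.Idx K) :=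
    mul_inv_eq_iff_eq_mul.1 (congrArg Subtype.val hg)
  obtain ⟨w, -, n, hn, π, hπ, u, -, -, e2, -, -⟩ :=
    twist C g.2 (tor_mem C hT hk _) (tor_mem C hT hk _) e
  refine hne (Finset.card_equiv π fun t => ?_)
  have h1 := chi_of_conj C hπ e2 t
  simp only [Finset.mem_filter, Finset.mem_univ, true_and, ← chi_dec_one C hK, h1]

end CfsgLib.Lie.OddInvol
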