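import Cfsg.Agent.Lib.Lie.Chev.SimpleMod.Inst
import Cfsg.Agent.Lib.Lie.Chev.Tw.Tools2
import Cfsg.Agent.Lib.Lie.Chev.Tw.Root
import Cfsg.Agent.Lib.Lie.Chev.CoxTorus.WMat
import Mathlib.FieldTheory.Finite.Basic

/-!
# Involutions of split Chevalley groups in odd characteristic: reduction to monomial elements

An involution in a Bruhat cell is conjugate to a monomial involution of that cell; a negated
fundamental root shortens the cell if its scalar is a square, and otherwise gives a move by the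
coroot torus.
-/

set_option autoImplicit false

namespace CfsgLib.Lie.OddInvol

open Cfsg.Lie CfsgLib.Lie.Chev CfsgLib.Lie.CoxTorus
open CfsgLib.Rep.CurtisRichen (upp low dia)
open CfsgLib.Block.DefiningChar.Chevalley (UG)
open scoped MatrixGroups

variable {D : ChevalleyDatum} (C : Full D) {K : Type*} [Field K] [Fintype K]

/-- being conjugate in the group -/
def Cj (D : ChevalleyDatum) {K : Type*} [Field K] (u v : GL D.Idx K) : Prop :=
  ∃ g ∈ D.group K, g * u * g⁻¹ = v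

theorem Cj.trans {u v w : GL D.Idx K} (h1 : Cj D u v) (h2 : Cj D v w) : Cj D u w := by
  obtain ⟨g, hg, rfl⟩ := h1
  obtain ⟨g', hg', rfl⟩ := h2
  exact ⟨g' * g, mul_mem hg' hg, by group⟩

theorem Cj.sq_eq_one {u v : GL D.Idx K} (h : Cj D u v) (hu : u * u = 1) : v * v = 1 := by
  obtain ⟨g, -, rfl⟩ := h
  calc g * u * g⁻¹ * (g * u * g⁻¹) = g * (u * u) * g⁻¹ := by group
    _ = 1 := by rw [hu]; group

/-- an involution is conjugate to a monomial involution of the same cell -/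
theorem conj_monomial (p : ℕ) [Fact p.Prime] [CharP K p] (hp : p ≠ 2)
    {b n v : GL D.Idx K} (hb : b ∈ D.borelSubgroup K) (hn : n ∈ D.monomialSubgroup K)
    {π : Equiv.Perm (Fin D.nroots)} (hπ : C.G.NPerm n π)
    (hv : v ∈ (Uinv C.G π : Subgroup (GL D.Idx K))) (hsq : b * n * v * (b * n * v) = 1) :
    ∃ m ∈ D.monomialSubgroup K, C.G.NPerm m π ∧ m * m = 1 ∧ Cj D (b * n * v) m := by
  have hvB : v ∈ D.borelSubgroup K := Subgroup.mem_sup_left (C.G.Uinv_le _ hv)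
  obtain ⟨w, hw, d, hd, e⟩ := C.G.mem_borel_iff.1 (mul_mem hvB hb)
  set m := d * n with hm
  have hmN : m ∈ D.monomialSubgroup K := mul_mem (C.G.H_le_monomial hd) hn
  have hmπ : C.G.NPerm m π := by
    have := Good.NPerm.mul C.G (C.G.nPerm_H hd) hπ
    rwa [one_mul] at this
  -- the conjugate `w * m`
  have h1 : w * m = v * (b * n * v) * v⁻¹ := by
    rw [hm, ← mul_assoc, ← e]; group
  have hsq' : w * m * (w * m) = 1 := by
    rw [h1]
    calc v * (b * n * v) * v⁻¹ * (v * (b * n * v) * v⁻¹)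
        = v * (b * n * v * (b * n * v)) * v⁻¹ := by group
      _ = 1 := by rw [hsq]; group
  have heq : w * m * 1 = 1 * m⁻¹ * w⁻¹ := by
    rw [mul_one, one_mul, ← mul_inv_rev, ← mul_eq_one_iff_eq_inv]
    exact hsq'
  have hee : m * m ∈ D.diagonalSubgroup K := by
    have h2 := C.eqv_mem_H hmN (inv_mem hmN) (Subgroup.mem_sup_left hw) (one_mem _) (one_mem _)
      (inv_mem (Subgroup.mem_sup_left hw)) heq
    have h3 := inv_mem h2
    simpa [mul_inv_rev] using h3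
  obtain ⟨a, ha, c, hc, hac⟩ := C.exists_keep_mul_inv π hw
  have hA := C.G.conj_Ukeep hmπ a ha
  have hB := C.G.conj_Uinv hmπ c hc
  have hC : m * c * m⁻¹ = (m * a * m⁻¹)⁻¹ * (w⁻¹ * (m * m)⁻¹) := by
    have h2 : m * a * m⁻¹ * (m * c * m⁻¹) = w⁻¹ * (m * m)⁻¹ := by
      calc m * a * m⁻¹ * (m * c * m⁻¹) = w⁻¹ * (w * m * (w * m)) * (m * m)⁻¹ := by rw [hac]; group
        _ = _ := by rw [hsq', mul_one]
    rw [← h2]; group
  have hC1 : m * c * m⁻¹ = 1 := Subgroup.mem_bot.1 (C.G.B_inf_V (K := K) ▸ Subgroup.mem_inf.2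
    ⟨hC ▸ mul_mem (inv_mem (Subgroup.mem_sup_left hA))
      (mul_mem (inv_mem (Subgroup.mem_sup_left hw)) (Subgroup.mem_sup_right (inv_mem hee))), hB⟩)
  have hme : m * m = 1 := by
    rw [hC1, eq_comm, inv_mul_eq_one] at hC
    obtain ⟨-, h2⟩ := C.G.eq_one_of_U_H (mul_mem (inv_mem hA) (inv_mem hw)) (inv_mem hee) (by
      rw [mul_assoc, ← hC, inv_mul_cancel])
    exact inv_eq_one.1 h2
  have hmw : m * w * m⁻¹ = w⁻¹ := by
    calc m * w * m⁻¹ = w⁻¹ * (w * m * (w * m)) * (m * m)⁻¹ := by group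
      _ = _ := by rw [hsq', hme]; group
  -- the square root of `w`
  let wG : ↥(UG D K) := ⟨⟨w, C.G.posUnipotent_le_group hw⟩, hw⟩
  have hodd : Odd (orderOf wG) := by
    obtain ⟨k, hk⟩ := IsPGroup.iff_orderOf.1
      (CfsgLib.Block.DefiningChar.Chevalley.isPGroup_UG C (K := K) p) wG
    rw [hk]
    exact ((Fact.out : p.Prime).odd_of_ne_two hp).pow
  obtain ⟨k, hk⟩ := hodd
  have hwk : w ^ (2 * k + 1) = 1 := by
    have h2 := pow_orderOf_eq_one wG
    rw [hk] at h2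
    exact congrArg (fun z : ↥(UG D K) => ((z : ↥(D.group K)) : GL D.Idx K)) h2
  set x := w ^ (k + 1) with hx
  have hxx : x * x = w := by
    rw [hx, ← pow_add, show k + 1 + (k + 1) = (2 * k + 1) + 1 by ring, pow_succ, hwk, one_mul]
  have hmx : m * x * m⁻¹ = x⁻¹ := by
    rw [hx, ← conj_pow, hmw, inv_pow]
  refine ⟨m, hmN, hmπ, hme, x⁻¹ * v, mul_mem (inv_mem (pow_mem (C.G.posUnipotent_le_group hw) _))
    (C.G.posUnipotent_le_group (C.G.Uinv_le _ hv)), ?_⟩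
  have hmx' : m * x = x⁻¹ * m := mul_inv_eq_iff_eq_mul.1 hmx
  calc x⁻¹ * v * (b * n * v) * (x⁻¹ * v)⁻¹ = x⁻¹ * (w * m) * x := by rw [h1]; group
    _ = x⁻¹ * x * x * (m * x) := by rw [← hxx]; group
    _ = m := by rw [hmx']; group

/-- the scalar of a negated fundamental root -/
def Scal (m : GL D.Idx K) (i : Fin D.rank) (c : Kˣ) : Prop :=
  ∀ t : K, m * C.G.xu (C.G.simp' i) t * m⁻¹ = C.G.xu (C.G.negr (C.G.simp' i)) ((c : K) * t)

theorem exists_scal {m : GL D.Idx K} {π : Equiv.Perm (Fin D.nroots)} (hπ : C.G.NPerm m π)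
    {i : Fin D.rank} (hi : π (C.G.simp' i) = C.G.negr (C.G.simp' i)) : ∃ c, Scal C m i c := by
  obtain ⟨c, hc⟩ := hπ (C.G.simp' i)
  exact ⟨c, fun t => hi ▸ hc t⟩

theorem Scal.neg {m : GL D.Idx K} {i : Fin D.rank} {c : Kˣ} (h : Scal C m i c) (hm : m * m = 1)
    (t : K) : m * C.G.xu (C.G.negr (C.G.simp' i)) t * m⁻¹ = C.G.xu (C.G.simp' i) (((c⁻¹ : Kˣ) : K) * t) := by
  have h1 := h (((c⁻¹ : Kˣ) : K) * t)
  rw [Units.mul_inv_cancel_left] at h1
  rw [← h1]
  calc m * (m * C.G.xu (C.G.simp' i) (((c⁻¹ : Kˣ) : K) * t) * m⁻¹) * m⁻¹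
      = (m * m) * C.G.xu (C.G.simp' i) (((c⁻¹ : Kˣ) : K) * t) * (m * m)⁻¹ := by group
    _ = _ := by rw [hm]; group

/-- a square scalar shortens the cell -/
theorem shorten {m : GL D.Idx K} (hmN : m ∈ D.monomialSubgroup K) {π : Equiv.Perm (Fin D.nroots)}
    (hπ : C.G.NPerm m π) (hm : m * m = 1) {i : Fin D.rank} {c : Kˣ} (hc : Scal C m i c)
    (hsq : IsSquare c) (p : ℕ) [Fact p.Prime] [CharP K p] (hp : p ≠ 2) :
    ∃ m' ∈ D.monomialSubgroup K, C.G.NPerm m' (C.G.sP i * π) ∧ m' * m' = 1 ∧ Cj D m m' := by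
  obtain ⟨e, rfl⟩ := hsq
  set P := C.G.xu (K := K) (C.G.simp' i)
  set Q := C.G.xu (K := K) (C.G.negr (C.G.simp' i))
  set g := Q (e : K) with hg
  set n' := C.G.nE (C.G.simp' i) (((e⁻¹ : Kˣ) : K)) * m with hn'
  have hz : g⁻¹ * m * g = P (-((e⁻¹ : Kˣ) : K)) * n' * 1 := by
    have h1 : m * g = P ((((e * e)⁻¹ : Kˣ) : K) * e) * m :=
      mul_inv_eq_iff_eq_mul.1 (hc.neg C hm e)
    rw [mul_assoc, h1, show (((e * e)⁻¹ : Kˣ) : K) * e = ((e⁻¹ : Kˣ) : K) by
      rw [← Units.val_mul, mul_inv_rev, inv_mul_cancel_right]]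
    rw [hn', Good.nE, hg]
    simp only [P, Q, C.G.xu_inv, show -((((e⁻¹ : Kˣ) : K))⁻¹) = -(e : K) by
      rw [Units.val_inv_eq_inv_val, inv_inv]]
    rw [← C.G.xu_inv, ← C.G.xu_inv]
    group
  have hnN : n' ∈ D.monomialSubgroup K := by
    rw [hn', C.G.nE_simp]
    refine mul_mem (mul_mem (C.G.H_le_monomial (C.G.hd_mem_H _ _)) ?_) hmN
    have := C.G.nw_mem_monomial (K := K) [i]
    rwa [Good.nw, List.map_singleton, List.prod_singleton] at this
  have hnπ : C.G.NPerm n' (C.G.sP i * π) := by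
    have := Good.NPerm.mul C.G (Good.NPerm.mul C.G (C.G.nPerm_H (C.G.hd_mem_H (C.G.simp' i) e⁻¹))
      (C.G.nPerm_nU i)) hπ
    rw [one_mul, ← C.G.nE_simp] at this
    exact this
  have hgG : g ∈ D.group K := C.G.xu_mem _ _
  have hcj : Cj D m (P (-((e⁻¹ : Kˣ) : K)) * n' * 1) := ⟨g⁻¹, inv_mem hgG, by rw [inv_inv]; exact hz⟩
  obtain ⟨m', h1, h2, h3, h4⟩ := conj_monomial C p hp
    (Subgroup.mem_sup_left (C.G.xu_mem_U (C.G.simp_pos i) _)) hnN hnπ (one_mem _) (hcj.sq_eq_one hm)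
  exact ⟨m', h1, h2, h3, hcj.trans h4⟩

/-- a non-square scalar moves the element along the coroot torus -/
theorem move (hK : Fintype.card K % 2 = 1) {m : GL D.Idx K} (hm : m * m = 1) {i : Fin D.rank}
    {c : Kˣ} (hc : Scal C m i c) {a : Kˣ} (ha : ¬ IsSquare a) :
    Cj D m (C.G.hd (C.G.simp' i) a * m) := by
  classical
  obtain ⟨x, y, hxy⟩ : ∃ x y : K, x ^ 2 - (c : K) * y ^ 2 = a := by
    obtain ⟨x, y, h⟩ := FiniteField.exists_root_sum_quadratic
      (f := Polynomial.X ^ 2 - Polynomial.C (a : K))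
      (g := Polynomial.C (-(c : K)) * Polynomial.X ^ 2)
      (Polynomial.degree_X_pow_sub_C (by norm_num) _)
      (by rw [Polynomial.degree_C_mul (neg_ne_zero.2 c.ne_zero), Polynomial.degree_X_pow]; rfl) hK
    refine ⟨x, y, ?_⟩
    simp only [Polynomial.eval_sub, Polynomial.eval_pow, Polynomial.eval_X, Polynomial.eval_C,
      Polynomial.eval_mul] at h
    linear_combination h
  have hy : y ≠ 0 := by
    rintro rfl
    refine ha ⟨Units.mk0 x fun h => a.ne_zero (by rw [← hxy, h]; ring), Units.ext ?_⟩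
    rw [Units.val_mul, Units.val_mk0, ← hxy]; ring
  have hc0 := c.ne_zero
  have ha0 := a.ne_zero
  set φ := SimpleMod.hom C (K := K) i
  set l1 : K := (x / (a : K) - 1) / y with hl1
  set l2 : K := (x - 1) / y with hl2
  set g : GL D.Idx K := C.G.xu (C.G.negr (C.G.simp' i)) l1 * C.G.xu (C.G.simp' i) y *
    C.G.xu (C.G.negr (C.G.simp' i)) l2 with hg
  refine ⟨g, mul_mem (mul_mem (C.G.xu_mem _ _) (C.G.xu_mem _ _)) (C.G.xu_mem _ _), ?_⟩
  have hmg : m * g * m⁻¹ = C.G.xu (C.G.simp' i) (l1 / c) * C.G.xu (C.G.negr (C.G.simp' i)) (c * y) *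
      C.G.xu (C.G.simp' i) (l2 / c) := by
    rw [hg, show m * (C.G.xu (C.G.negr (C.G.simp' i)) l1 * C.G.xu (C.G.simp' i) y *
        C.G.xu (C.G.negr (C.G.simp' i)) l2) * m⁻¹ =
      (m * C.G.xu (C.G.negr (C.G.simp' i)) l1 * m⁻¹) * (m * C.G.xu (C.G.simp' i) y * m⁻¹) *
        (m * C.G.xu (C.G.negr (C.G.simp' i)) l2 * m⁻¹) by group, hc.neg C hm, hc.neg C hm, hc y,
      Units.val_inv_eq_inv_val]
    simp only [div_eq_inv_mul]
  have hmat : low l1 * upp y * low l2 * (upp (-(l2 / c)) * low (-(c * y : K)) * upp (-(l1 / c))) =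
      dia a := by
    apply Matrix.SpecialLinearGroup.ext
    intro s t
    simp only [Matrix.SpecialLinearGroup.coe_mul, hl1, hl2]
    fin_cases s <;> fin_cases t <;>
      simp [upp, low, dia, Matrix.mul_apply, Fin.sum_univ_two] <;> field_simp <;>
      grind
  have key : g * (m * g * m⁻¹)⁻¹ = C.G.hd (C.G.simp' i) a := by
    rw [← SimpleMod.hom_dia C i a, ← hmat, hmg, hg]
    simp only [map_mul, Subgroup.coe_mul, SimpleMod.hom_upp, SimpleMod.hom_low]
    rw [← C.G.xu_inv, ← C.G.xu_inv, ← C.G.xu_inv]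
    group
  rw [← key]
  group

end CfsgLib.Lie.OddInvol
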