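import Cfsg.Agent.Lib.Lie.Chev.OddInvol.Monomial
import Cfsg.Agent.Lib.Lie.Chev.StWeyl
import Mathlib.NumberTheory.LegendreSymbol.QuadraticChar.Basic

/-!
# Every involution is conjugate into the diagonal subgroup

The induction is on the number of inversions of the permutation of a monomial involution.
-/

set_option autoImplicit false

namespace CfsgLib.Lie.OddInvol

open Cfsg.Lie CfsgLib.Lie.Chev CfsgLib.Lie.CoxTorus
open scoped MatrixGroups

variable {D : ChevalleyDatum}

/-- the conditions on the Cartan matrix used for involutions in odd characteristic -/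
structure InvData (D : ChevalleyDatum) : Prop where
  adj : ∀ i j : Fin D.rank, i ≠ j → Even (cmat D i j) → Even (cmat D j i) → cmat D i j = 0
  orth : ∀ i j : Fin D.rank, i ≠ j → cmat D i j = 0 →
    ∀ a ∈ [D.simple i.val, D.neg (D.simple i.val)], ∀ b ∈ [D.simple j.val, D.neg (D.simple j.val)],
      b ≠ a ∧ b ≠ D.neg a ∧ D.commTerms a b = []
  par : ∀ J : Finset (Fin D.rank), (∀ i ∈ J, ∀ j ∈ J, i ≠ j → cmat D i j = 0) →
    (∀ b : Fin D.rank, Even (∑ j ∈ J, cmat D j b)) → J = ∅

variable (C : Full D) {K : Type*} [Field K] [Fintype K]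

theorem cart_eq_cmat (i j : Fin D.rank) : cart D i (C.G.simp' j) = cmat D i j := by
  rw [cart, cmat, C.G.simp_val]

theorem InvData.orth' (h : InvData D) {i j : Fin D.rank} (hij : i ≠ j) (h0 : cmat D i j = 0) :
    C.Orth (C.G.simp' i) (C.G.simp' j) := by
  intro a ha b hb
  obtain ⟨h1, h2, h3⟩ := h.orth i j hij h0 a.val (by
    simp only [List.mem_cons, List.not_mem_nil, or_false] at ha ⊢
    rcases ha with rfl | rfl
    · exact Or.inl (C.G.simp_val i)
    · exact Or.inr (by rw [C.G.negr_val, C.G.simp_val])) b.val (by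
    simp only [List.mem_cons, List.not_mem_nil, or_false] at hb ⊢
    rcases hb with rfl | rfl
    · exact Or.inl (C.G.simp_val j)
    · exact Or.inr (by rw [C.G.negr_val, C.G.simp_val]))
  exact ⟨fun e => h1 (congrArg Fin.val e),
    fun e => h2 ((congrArg Fin.val e).trans (C.G.negr_val a)), h3⟩

omit [Fintype K] in
theorem hd_simp (i : Fin D.rank) (a : Kˣ) :
    C.G.hd (C.G.simp' i) a = C.G.tor fun l => a ^ cart D i (C.G.simp' l) := by
  simp only [Good.hd, MonoidHom.comp_apply, MonoidHom.coe_mk, OneHom.coe_mk, C.G.pair_simp]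

omit [Fintype K] in
theorem nU_mul_self (i : Fin D.rank) :
    C.G.nU i * C.G.nU i = C.G.hd (C.G.simp' i) (-1 : Kˣ) := by
  have h := C.hd_eq (K := K) (C.G.simp' i) (-1)
  rw [Units.val_neg, Units.val_one, ← C.G.nE_inv, C.G.nE_simp_one, ← mul_inv_rev] at h
  have h2 : C.G.hd (C.G.simp' i) (-1 : Kˣ) = (C.G.hd (C.G.simp' i) (-1 : Kˣ))⁻¹ := by
    rw [← map_inv, inv_neg, inv_one]
  rw [h2, h, inv_inv]

omit [Fintype K] in
theorem nU_commute {i j : Fin D.rank} (h : C.Orth (C.G.simp' i) (C.G.simp' j))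
    {a : Fin D.nroots} (ha : a ∈ [C.G.simp' j, C.G.negr (C.G.simp' j)]) (t : K) :
    Commute (C.G.nU i : GL D.Idx K) (C.G.xu a t) := by
  refine Commute.mul_left (Commute.mul_left ?_ ?_) ?_ <;>
    exact C.orth_commute h (by simp) ha _ _

omit [Fintype K] in
theorem nU_commute_nU {i j : Fin D.rank} (h : C.Orth (C.G.simp' i) (C.G.simp' j)) :
    Commute (C.G.nU i : GL D.Idx K) (C.G.nU j) := by
  refine Commute.mul_right (Commute.mul_right ?_ ?_) ?_ <;> exact nU_commute C h (by simp) _

omit [Fintype K] in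
theorem nw_xu (h : InvData D) {L : List (Fin D.rank)} (hL : L.Nodup)
    (hc : ∀ i ∈ L, ∀ j ∈ L, i ≠ j → cmat D i j = 0) {j : Fin D.rank} (hj : j ∈ L) (t : K) :
    C.G.nw L * C.G.xu (C.G.simp' j) t * (C.G.nw L)⁻¹ =
      C.G.xu (C.G.negr (C.G.simp' j)) (-t) := by
  obtain ⟨L1, L2, rfl⟩ := List.mem_iff_append.1 hj
  rw [List.nodup_middle] at hL
  obtain ⟨hnot, -⟩ := List.nodup_cons.1 hL
  have hcomm : ∀ L' : List (Fin D.rank), L' ⊆ L1 ++ L2 → ∀ a ∈ [C.G.simp' j, C.G.negr (C.G.simp' j)],
      ∀ x : K, Commute (C.G.nw L' : GL D.Idx K) (C.G.xu a x) := by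
    intro L' hL' a ha x
    refine Commute.list_prod_left _ _ fun y hy => ?_
    obtain ⟨k, hk, rfl⟩ := List.mem_map.1 hy
    have hk' := hL' hk
    have hkj : k ≠ j := fun e => hnot (e ▸ hk')
    refine nU_commute C (h.orth' C hkj (hc k ?_ j hj hkj)) ha x
    rcases List.mem_append.1 hk' with e | e <;> simp [e]
  rw [C.G.nw_append, C.G.nw_cons]
  calc C.G.nw L1 * (C.G.nU j * C.G.nw L2) * C.G.xu (C.G.simp' j) t *
        (C.G.nw L1 * (C.G.nU j * C.G.nw L2))⁻¹
      = C.G.nw L1 * (C.G.nU j * (C.G.nw L2 * C.G.xu (C.G.simp' j) t * (C.G.nw L2)⁻¹) *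
          (C.G.nU j)⁻¹) * (C.G.nw L1)⁻¹ := by group
    _ = C.G.nw L1 * C.G.xu (C.G.negr (C.G.simp' j)) (-t) * (C.G.nw L1)⁻¹ := by
        rw [(hcomm L2 (by simp) _ (by simp) t).eq, mul_inv_cancel_right, C.G.nU_xu, C.G.eta_simp,
          C.G.w_simp, mul_inv_cancel_right]
        simp
    _ = _ := by rw [(hcomm L1 (by simp) _ (by simp) _).eq, mul_inv_cancel_right]

omit [Fintype K] in
theorem nw_tor_nw (h : InvData D) : ∀ {L : List (Fin D.rank)}, L.Nodup →
    (∀ i ∈ L, ∀ j ∈ L, i ≠ j → cmat D i j = 0) → ∀ v : Fin D.rank → Kˣ,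
    C.G.nw L * C.G.tor v * C.G.nw L =
      C.G.tor fun b => v b * (L.map fun j => (-(v j))⁻¹ ^ cmat D j b).prod := by
  intro L
  induction L with
  | nil =>
    intro _ _ v
    simp [Good.nw_nil]
  | cons j L ih =>
    intro hL hc v
    obtain ⟨hnot, hL'⟩ := List.nodup_cons.1 hL
    have hne : ∀ k ∈ L, k ≠ j := fun k hk e => hnot (e ▸ hk)
    have hcomm : Commute (C.G.nw L : GL D.Idx K) (C.G.nU j) :=
      Commute.list_prod_left _ _ fun y hy => by
        obtain ⟨k, hk, rfl⟩ := List.mem_map.1 hy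
        exact nU_commute_nU C (h.orth' C (hne k hk)
          (hc k (by simp [hk]) j (by simp) (hne k hk)))
    rw [C.G.nw_cons]
    calc C.G.nU j * C.G.nw L * C.G.tor v * (C.G.nU j * C.G.nw L)
        = C.G.nU j * C.G.nw L * C.G.tor v * (C.G.nw L * C.G.nU j) := by rw [hcomm.eq]
      _ = C.G.nU j * (C.G.nw L * C.G.tor v * C.G.nw L) * C.G.nU j := by simp only [mul_assoc]
      _ = C.G.tor (C.G.wc j fun b => v b * (L.map fun k => (-(v k))⁻¹ ^ cmat D k b).prod) *
            (C.G.nU j * C.G.nU j) := by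
          rw [ih hL' (fun a ha b hb => hc a (by simp [ha]) b (by simp [hb])), C.G.nU_tor, mul_assoc]
      _ = _ := by
          rw [nU_mul_self C, hd_simp C, ← map_mul]
          congr 1
          funext b
          have hz : (L.map fun k => (-(v k))⁻¹ ^ cmat D k j).prod = 1 :=
            List.prod_eq_one fun x hx => by
              obtain ⟨k, hk, rfl⟩ := List.mem_map.1 hx
              rw [hc k (by simp [hk]) j (by simp) (hne k hk), zpow_zero]
          have e : (-(v j))⁻¹ = (-1) * (v j)⁻¹ := by rw [inv_neg, neg_one_mul]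
          simp only [Good.wc, Pi.mul_apply, cart_eq_cmat C, hz, mul_one, List.map_cons,
            List.prod_cons]
          rw [e, mul_zpow _ (v j)⁻¹, inv_zpow, ← zpow_neg]
          ac_rfl

/-- a character with kernel the squares -/
theorem exists_quad (hK : Fintype.card K % 2 = 1) :
    ∃ φ : Kˣ →* ℤˣ, ∀ u, φ u = 1 ↔ IsSquare u := by
  classical
  refine ⟨Units.map (quadraticChar K).toMonoidHom, fun u => ?_⟩
  rw [Units.ext_iff, Units.coe_map, Units.val_one]
  show quadraticChar K (u : K) = 1 ↔ _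
  rw [quadraticChar_one_iff_isSquare u.ne_zero]
  constructor
  · rintro ⟨r, hr⟩
    exact ⟨Units.mk0 r fun e => u.ne_zero (by rw [hr, e, mul_zero]), Units.ext hr⟩
  · rintro ⟨r, rfl⟩
    exact ⟨(r : K), by simp⟩

omit [Fintype K] in
theorem units_eq_neg {G : Type*} [Monoid G] {φ : G →* ℤˣ} {u : G} (h : φ u ≠ 1) : φ u = -1 :=
  (Int.units_eq_one_or _).resolve_left h

/-- a monomial involution is conjugate into the diagonal subgroup -/
theorem monomial_invol (p : ℕ) [Fact p.Prime] [CharP K p] (hp : p ≠ 2)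
    (hK : Fintype.card K % 2 = 1) (h : InvData D) : ∀ (n : ℕ) {m : GL D.Idx K}
    (_ : m ∈ D.monomialSubgroup K) {π : Equiv.Perm (Fin D.nroots)} (_ : C.G.NPerm m π)
    (_ : m * m = 1) (_ : ninv C.G π = n), ∃ d ∈ D.diagonalSubgroup K, Cj D m d := by
  classical
  intro n
  induction n using Nat.strong_induction_on with
  | _ n ih =>
  intro m hm π hπ hsq hn
  have hW := mem_Wg_of_monomial C hm hπ
  have hπ2 : π * π = 1 := Good.NPerm.unique C.G (Good.NPerm.mul C.G hπ hπ)
    (by rw [hsq]; exact Good.NPerm.one C.G)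
  have hπi : π⁻¹ = π := inv_eq_of_mul_eq_one_right hπ2
  have hsW : ∀ i, C.G.sP i ∈ C.G.Wg := fun i => Subgroup.subset_closure ⟨i, rfl⟩
  have hnegW : ∀ {w : Equiv.Perm (Fin D.nroots)}, w ∈ C.G.Wg → ninv C.G w⁻¹ = ninv C.G w :=
    fun hw => C.G.ninv_inv _ (C.G.negr_WJ hw)
  have recur : ∀ {m' : GL D.Idx K} {π' : Equiv.Perm (Fin D.nroots)}, m' ∈ D.monomialSubgroup K →
      C.G.NPerm m' π' → Cj D m m' → ninv C.G π' < n → ∃ d ∈ D.diagonalSubgroup K, Cj D m d := by
    intro m' π' h1 h2 h3 h4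
    obtain ⟨d, hd, h5⟩ := ih _ h4 h1 h2 (h3.sq_eq_one hsq) rfl
    exact ⟨d, hd, h3.trans h5⟩
  have hlt : ∀ i, ¬ D.IsPosRoot (π (C.G.simp' i)).val → ninv C.G (C.G.sP i * π) < n := by
    intro i hi
    have h1 := C.G.ninv_mul_sP_lt hW hi
    rw [← hnegW (mul_mem hW (hsW i)), mul_inv_rev, C.G.sP_inv, hπi, hn] at h1
    exact h1
  by_cases hA : ∃ i, ¬ D.IsPosRoot (π (C.G.simp' i)).val ∧
      π (C.G.simp' i) ≠ C.G.negr (C.G.simp' i)
  · obtain ⟨i, hi, hne⟩ := hA
    set s := C.G.sP i with hs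
    have hu : (C.G.nU i : GL D.Idx K) ∈ D.monomialSubgroup K := C.G.nU_mem_monomial i
    have huG : (C.G.nU i : GL D.Idx K) ∈ D.group K :=
      mul_mem (mul_mem (C.G.xu_mem _ _) (C.G.xu_mem _ _)) (C.G.xu_mem _ _)
    refine recur (m' := C.G.nU i * m * (C.G.nU i)⁻¹) (π' := s * π * s⁻¹)
      (mul_mem (mul_mem hu hm) (inv_mem hu))
      (Good.NPerm.mul C.G (Good.NPerm.mul C.G (C.G.nPerm_nU i) hπ)
        (Good.NPerm.inv C.G (C.G.nPerm_nU i))) ⟨_, huG, rfl⟩ ?_
    rw [C.G.sP_inv]
    refine lt_trans (C.G.ninv_mul_sP_lt (mul_mem (hsW i) hW) ?_) (hlt i hi)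
    rw [Equiv.Perm.mul_apply, C.G.sP_apply, ← C.G.negr_negr (π (C.G.simp' i)), C.G.w_negr,
      C.G.negr_pos_iff, not_not]
    refine C.G.w_pos ((C.G.negr_pos_iff _).2 hi) fun e => hne ?_
    rw [← C.G.negr_negr (π (C.G.simp' i)), e]
  · push Not at hA
    set J := Finset.univ.filter fun i => π (C.G.simp' i) = C.G.negr (C.G.simp' i) with hJdef
    have hJ : ∀ i, i ∈ J ↔ π (C.G.simp' i) = C.G.negr (C.G.simp' i) := fun i => by simp [hJdef]
    have hJn : ∀ i ∈ J, ¬ D.IsPosRoot (π (C.G.simp' i)).val := fun i hi => by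
      rw [(hJ i).1 hi]; exact C.G.negr_simp_not_pos i
    obtain ⟨φ, hφ⟩ := exists_quad (K := K) hK
    by_cases hsqr : ∃ i ∈ J, ∃ c, Scal C m i c ∧ IsSquare c
    · obtain ⟨i, hi, c, hc, hc2⟩ := hsqr
      obtain ⟨m', h1, h2, h3, h4⟩ := shorten C hm hπ hsq hc hc2 p hp
      exact recur h1 h2 h4 (hlt i (hJn i hi))
    · push Not at hsqr
      by_cases hodd : ∃ i ∈ J, ∃ j ∈ J, i ≠ j ∧ ¬ Even (cmat D i j)
      · obtain ⟨i, hi, j, hj, -, hodd⟩ := hodd
        obtain ⟨a0, ha0⟩ := FiniteField.exists_nonsquare (F := K) (by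
          rw [ringChar.eq K p]; exact hp)
        set a := Units.mk0 a0 fun e => ha0 (e ▸ IsSquare.zero) with ha
        have hna : ¬ IsSquare a := fun ⟨r, hr⟩ => ha0 ⟨(r : K), by
          rw [← Units.val_mul, ← hr, ha, Units.val_mk0]⟩
        obtain ⟨ci, hci⟩ := exists_scal C hπ ((hJ i).1 hi)
        obtain ⟨cj, hcj⟩ := exists_scal C hπ ((hJ j).1 hj)
        have hmove := move C hK hsq hci hna
        set m1 := C.G.hd (C.G.simp' i) a * m with hm1
        have hm1N : m1 ∈ D.monomialSubgroup K :=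
          mul_mem (C.G.H_le_monomial (C.G.hd_mem_H _ _)) hm
        have hm1π : C.G.NPerm m1 π := by
          have := Good.NPerm.mul C.G (C.G.nPerm_H (C.G.hd_mem_H (C.G.simp' i) a)) hπ
          rwa [one_mul] at this
        have hc1 : Scal C m1 j (a ^ (-cmat D i j) * cj) := by
          intro t
          rw [hm1, show C.G.hd (C.G.simp' i) a * m * C.G.xu (C.G.simp' j) t *
              (C.G.hd (C.G.simp' i) a * m)⁻¹ = C.G.hd (C.G.simp' i) a *
                (m * C.G.xu (C.G.simp' j) t * m⁻¹) * (C.G.hd (C.G.simp' i) a)⁻¹ by group,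
            hcj t, hd_simp C, C.G.tor_conj_xu]
          rw [C.G.rho_negr, ← neg_one_smul ℤ, C.G.chi_zsmul, C.G.rho_simp, C.G.chi_single,
            cart_eq_cmat, ← zpow_mul, mul_neg_one, Units.val_mul, mul_assoc]
        have hsq1 : IsSquare (a ^ (-cmat D i j) * cj) := by
          rw [← hφ, map_mul, map_zpow, units_eq_neg (mt (hφ a).1 hna),
            units_eq_neg (mt (hφ cj).1 (hsqr j hj cj hcj))]
          rw [Int.not_even_iff_odd] at hodd
          rw [(Odd.neg hodd).neg_one_zpow, neg_mul_neg, one_mul]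
        obtain ⟨m', h1, h2, h3, h4⟩ :=
          shorten C hm1N hm1π (hmove.sq_eq_one hsq) hc1 hsq1 p hp
        exact recur h1 h2 (hmove.trans h4) (hlt j (hJn j hj))
      · push Not at hodd
        have hzero : ∀ i ∈ J, ∀ j ∈ J, i ≠ j → cmat D i j = 0 := fun i hi j hj hij =>
          h.adj i j hij (hodd i hi j hj hij) (hodd j hj i hi hij.symm)
        set L := J.toList.reverse with hLdef
        have hmem : ∀ i, i ∈ L ↔ i ∈ J := fun i => by simp [hLdef]
        have hnd : L.Nodup := List.nodup_reverse.2 J.nodup_toList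
        have hzL : ∀ i ∈ L, ∀ j ∈ L, i ≠ j → cmat D i j = 0 := fun i hi j hj =>
          hzero i ((hmem i).1 hi) j ((hmem j).1 hj)
        -- the permutation
        have hLJ : C.G.pw L ∈ WJ C.G J := list_prod_mem fun x hx => by
          obtain ⟨i, hi, rfl⟩ := List.mem_map.1 hx
          exact C.G.sP_mem_WJ ((hmem i).1 hi)
        have hpJ : ∀ j ∈ J, C.G.pw L (C.G.simp' j) = C.G.negr (C.G.simp' j) := fun j hj => by
          have h1 := nw_xu C (K := ℚ) h hnd hzL ((hmem j).2 hj) 1
          obtain ⟨c, hc⟩ := C.G.nPerm_nw (K := ℚ) L (C.G.simp' j)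
          exact C.G.xu_eq_xu ((hc 1).symm.trans h1) (by simp)
        have hone : C.G.pw L * π = 1 := by
          obtain ⟨l, hl⟩ := C.G.exists_pw (mul_mem (C.G.pw_mem L) hW)
          rw [← hl]
          refine C.G.pw_eq_one_of_pos l.length l rfl fun i => ?_
          rw [hl, Equiv.Perm.mul_apply]
          by_cases hi : i ∈ J
          · rw [(hJ i).1 hi, C.G.pw_negr, hpJ i hi, C.G.negr_negr]
            exact C.G.simp_pos i
          · have hpos : D.IsPosRoot (π (C.G.simp' i)).val := by
              by_contra hc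
              exact hi ((hJ i).2 (hA i hc))
            refine (C.G.outside_image hLJ fun hin => ?_).2.2 hpos
            have e : π (π (C.G.simp' i)) = C.G.simp' i := by
              rw [← Equiv.Perm.mul_apply, hπ2, Equiv.Perm.one_apply]
            obtain ⟨lp, hlp⟩ := C.G.exists_pw hW
            have e2 : π (π (C.G.simp' i)) = C.G.negr (π (C.G.simp' i)) := by
              refine C.G.rho_injective ?_
              rw [← hlp] at hin ⊢
              rw [C.G.rho_negr, C.G.rho_pw]
              funext k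
              rw [Finset.sum_apply, Pi.neg_apply, Finset.sum_eq_single_of_mem k (Finset.mem_univ _)]
              · by_cases hk : k ∈ J
                · rw [show C.G.pw lp (C.G.simp' k) = C.G.negr (C.G.simp' k) by
                    rw [hlp]; exact (hJ k).1 hk, C.G.rho_negr, C.G.rho_simp]
                  simp
                · rw [hin k hk]; simp
              · intro j _ hjk
                by_cases hj : j ∈ J
                · rw [show C.G.pw lp (C.G.simp' j) = C.G.negr (C.G.simp' j) by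
                    rw [hlp]; exact (hJ j).1 hj, C.G.rho_negr, C.G.rho_simp]
                  simp [Ne.symm hjk]
                · rw [hin j hj]; simp
            rw [e] at e2
            exact (C.G.negr_pos_iff _).1 (e2 ▸ C.G.simp_pos i) hpos
        have hπL : π = C.G.pw L.reverse := by
          rw [C.G.pw_reverse]; exact eq_inv_of_mul_eq_one_right hone
        set L' := L.reverse with hL'
        have hmem' : ∀ i, i ∈ L' ↔ i ∈ J := fun i => by simp [hL', hmem]
        have hnd' : L'.Nodup := List.nodup_reverse.2 hnd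
        have hzL' : ∀ i ∈ L', ∀ j ∈ L', i ≠ j → cmat D i j = 0 := fun i hi j hj =>
          hzero i ((hmem' i).1 hi) j ((hmem' j).1 hj)
        have hd : m * (C.G.nw L')⁻¹ ∈ D.diagonalSubgroup K := by
          refine C.G.mem_H_of_nPerm_one (mul_mem hm (inv_mem (C.G.nw_mem_monomial L'))) ?_
          have := Good.NPerm.mul C.G hπ (Good.NPerm.inv C.G (C.G.nPerm_nw (K := K) L'))
          rwa [← hπL, mul_inv_cancel] at this
        obtain ⟨v, hv⟩ := C.G.exists_tor hd
        have hmv : m = C.G.tor v * C.G.nw L' := by rw [← hv, inv_mul_cancel_right]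
        have hns : ∀ j ∈ J, φ ((-(v j))⁻¹) = -1 := by
          intro j hj
          refine units_eq_neg (mt (hφ _).1 (hsqr j hj _ fun t => ?_))
          rw [hmv, show C.G.tor v * C.G.nw L' * C.G.xu (C.G.simp' j) t *
            (C.G.tor v * C.G.nw L')⁻¹ = C.G.tor v *
              (C.G.nw L' * C.G.xu (C.G.simp' j) t * (C.G.nw L')⁻¹) * (C.G.tor v)⁻¹ by group,
            nw_xu C h hnd' hzL' ((hmem' j).2 hj), C.G.tor_conj_xu, C.G.rho_negr,
            ← neg_one_smul ℤ, C.G.chi_zsmul, C.G.rho_simp, C.G.chi_single, zpow_neg_one]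
          simp
        have hev : ∀ b, Even (∑ j ∈ J, cmat D j b) := by
          intro b
          have e1 : C.G.tor (K := K) (v * fun b => v b *
              (L'.map fun j => (-(v j))⁻¹ ^ cmat D j b).prod) = C.G.tor 1 := by
            rw [map_one, map_mul, ← nw_tor_nw C h hnd' hzL', ← hsq, hmv]
            simp only [mul_assoc]
          have e2 := congrArg φ (congrFun (tor_inj C e1) b)
          rw [Pi.mul_apply, Pi.one_apply, map_one, map_mul, map_mul, ← mul_assoc, Int.units_mul_self,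
            one_mul, map_list_prod, List.map_map, ← List.prod_toFinset _ hnd',
            show L'.toFinset = J by ext i; simp [hmem']] at e2
          rw [Finset.prod_congr rfl (fun j hj => show (φ ∘ fun j => (-(v j))⁻¹ ^ cmat D j b) j =
            (cmat D j b).negOnePow by rw [Function.comp_apply, map_zpow, hns j hj]; rfl)] at e2
          refine (Int.negOnePow_eq_one_iff _).1 (Eq.trans ?_ e2)
          clear e2
          induction J using Finset.induction with
          | empty => simp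
          | insert a s ha ih' =>
            rw [Finset.sum_insert ha, Finset.prod_insert ha, Int.negOnePow_add, ih']
        have hJ0 := h.par J hzero hev
        refine ⟨m, ?_, 1, one_mem _, by group⟩
        rw [hmv, show L' = [] from List.eq_nil_iff_forall_not_mem.2 fun i hi => by
          have := (hmem' i).1 hi
          simp [hJ0] at this, Good.nw_nil, mul_one]
        exact hv ▸ hd

include C in
/-- every involution is conjugate to a diagonal element -/
theorem invol_conj_diag (hK : Fintype.card K % 2 = 1) (h : InvData D) {g : GL D.Idx K}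
    (hg : g ∈ D.group K) (hsq : g * g = 1) :
    ∃ d ∈ D.diagonalSubgroup K, Cj D g d := by
  haveI := Fact.mk (CharP.char_is_prime K (ringChar K))
  have hp : ringChar K ≠ 2 := fun e => by
    rw [FiniteField.even_card_iff_char_two] at e
    omega
  obtain ⟨b, hb, n, hn, π, hπ, u, hu, rfl⟩ := C.refined_exists hg
  obtain ⟨m, h1, h2, h3, h4⟩ := conj_monomial C (ringChar K) hp hb hn hπ hu hsq
  obtain ⟨d, hd, h5⟩ := monomial_invol C (ringChar K) hp hK h _ h1 h2 h3 rfl
  exact ⟨d, hd, h4.trans h5⟩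

end CfsgLib.Lie.OddInvol
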