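import Cfsg.Agent.Lib.Lie.Chev.PoinCert
import Cfsg.Agent.Lib.Lie.Chev.StWeyl
import Cfsg.Agent.Lib.Lie.Chev.Tw.Root

/-!
# The Weyl group elements keeping a parity class of roots

The roots with even weight on a code form a root system; its stabiliser is generated by the
reflections in its fundamental roots, as is verified by tables.
-/

set_option autoImplicit false

namespace CfsgLib.Lie.OddInvol

open Cfsg.Lie CfsgLib.Lie.Chev

/-- the data of one parity class -/
structure SubData where
  c : ℕ
  mask : ℕ
  base : List ℕ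
  y : List ℤ
  z : List (List ℤ)
  cm : List (List ℤ)
  W : List (List ℕ)
  T : List ℕ
  split : List (ℕ × ℕ × ℕ)

variable {D : ChevalleyDatum}

/-- the root has even weight on the code -/
def inPhi (G : Good D) (c : ℕ) (r : Fin D.nroots) : Prop :=
  Even (∑ j : Fin D.rank, if c.testBit j.val then G.rho r j else 0)

/-- the positive roots of even weight -/
def PA (G : Good D) (c : ℕ) (r : Fin D.nroots) : Prop := D.IsPosRoot r.val ∧ inPhi G c r

open scoped Classical in
/-- the Weyl group elements keeping the parity class -/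
noncomputable def stabC (G : Good D) (c : ℕ) : Finset (Equiv.Perm (Fin D.nroots)) :=
  Finset.univ.filter fun π => π ∈ G.Wg ∧ ∀ r, inPhi G c (π r) ↔ inPhi G c r

open scoped Classical in
/-- the inversions inside the parity class -/
noncomputable def ninvA (G : Good D) (c : ℕ) (π : Equiv.Perm (Fin D.nroots)) : ℕ :=
  (Finset.univ.filter fun r : Fin D.nroots => PA G c r ∧ ¬ D.IsPosRoot (π r).val).card

/-- the pairing of a coroot with a root -/
def prR (_ : Good D) (s r : Fin D.nroots) : ℤ :=
  ∑ k : Fin D.rank, (D.coroot.getD s.val #[]).getD k.val 0 * cart D k r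

section generic

variable (G : Good D)

theorem prR_eq (s r : Fin D.nroots) : prR G s r = ∑ j, G.rho r j * G.pair s j := by
  simp only [prR, Good.pair, G.cart_eq _ r, Finset.mul_sum]
  rw [Finset.sum_comm]
  exact Finset.sum_congr rfl fun j _ => Finset.sum_congr rfl fun k _ => by ring

theorem prR_w (i : Fin D.rank) (s r : Fin D.nroots) : prR G (G.w i s) (G.w i r) = prR G s r := by
  simp only [prR, G.coroot_w, G.cart_w]
  set S := ∑ k : Fin D.rank, cart D k (G.simp' i) * (D.coroot.getD s.val #[]).getD k.val 0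
  have e : ∀ k : Fin D.rank, ((D.coroot.getD s.val #[]).getD k.val 0 - if k = i then S else 0) *
      (cart D k r - cart D i r * cart D k (G.simp' i)) =
      (D.coroot.getD s.val #[]).getD k.val 0 * cart D k r -
        cart D i r * (cart D k (G.simp' i) * (D.coroot.getD s.val #[]).getD k.val 0) -
        (if k = i then S * cart D k r - cart D i r * (S * cart D k (G.simp' i)) else 0) := by
    intro k
    split_ifs <;> ring
  rw [Finset.sum_congr rfl fun k _ => e k, Finset.sum_sub_distrib, Finset.sum_sub_distrib,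
    Finset.sum_ite_eq', if_pos (Finset.mem_univ _), ← Finset.mul_sum, G.cart_simp]
  ring

theorem prR_perm {π : Equiv.Perm (Fin D.nroots)} (hπ : π ∈ G.Wg) (s r : Fin D.nroots) :
    prR G (π s) (π r) = prR G s r := by
  obtain ⟨l, rfl⟩ := G.exists_pw hπ
  induction l with
  | nil => rfl
  | cons i l ih =>
    rw [G.pw_cons, Equiv.Perm.mul_apply, Equiv.Perm.mul_apply, G.sP_apply, G.sP_apply, prR_w,
      ih (G.pw_mem l)]

theorem inPhi_negr (c : ℕ) (r : Fin D.nroots) : inPhi G c (G.negr r) ↔ inPhi G c r := by
  rw [inPhi, inPhi, G.rho_negr, ← even_neg, ← Finset.sum_neg_distrib]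
  refine iff_of_eq (congrArg Even (Finset.sum_congr rfl fun j _ => ?_))
  split_ifs <;> simp

theorem inPhi_of_add {c : ℕ} {r s t : Fin D.nroots} (h : G.rho r = G.rho s + G.rho t)
    (hs : inPhi G c s) (ht : inPhi G c t) : inPhi G c r := by
  have := hs.add ht
  rw [← Finset.sum_add_distrib] at this
  rw [inPhi, h]
  refine Eq.mp (congrArg Even (Finset.sum_congr rfl fun j _ => ?_)) this
  split_ifs <;> simp

theorem perm_add {π : Equiv.Perm (Fin D.nroots)} (hπ : π ∈ G.Wg) {r s t : Fin D.nroots}
    (h : G.rho r = G.rho s + G.rho t) : G.rho (π r) = G.rho (π s) + G.rho (π t) := by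
  obtain ⟨l, rfl⟩ := G.exists_pw hπ
  rw [G.rho_pw, G.rho_pw l s, G.rho_pw l t, ← Finset.sum_add_distrib, h]
  exact Finset.sum_congr rfl fun j _ => by rw [Pi.add_apply, add_smul]

theorem stabC_one (c : ℕ) : (1 : Equiv.Perm (Fin D.nroots)) ∈ stabC G c := by
  classical
  exact Finset.mem_filter.2 ⟨Finset.mem_univ _, one_mem _, fun r => Iff.rfl⟩

theorem stabC_mul {c : ℕ} {π σ : Equiv.Perm (Fin D.nroots)} (hπ : π ∈ stabC G c)
    (hσ : σ ∈ stabC G c) : π * σ ∈ stabC G c := by
  classical
  simp only [stabC, Finset.mem_filter, Finset.mem_univ, true_and] at *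
  exact ⟨mul_mem hπ.1 hσ.1, fun r => by rw [Equiv.Perm.mul_apply, hπ.2, hσ.2]⟩

theorem stabC_inv {c : ℕ} {π : Equiv.Perm (Fin D.nroots)} (hπ : π ∈ stabC G c) :
    π⁻¹ ∈ stabC G c := by
  classical
  simp only [stabC, Finset.mem_filter, Finset.mem_univ, true_and] at *
  refine ⟨inv_mem hπ.1, fun r => ?_⟩
  conv_rhs => rw [← π.apply_symm_apply r]
  exact (hπ.2 (π⁻¹ r)).symm

end generic

/-- membership in a bit set -/
noncomputable def bit (M r : ℕ) : Bool := Nat.testBit M r

/-- a dot product with the coordinates of a root -/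
noncomputable def rdot (D : ChevalleyDatum) (f : Fast) (v : List ℤ) (r : ℕ) : ℤ :=
  Nat.rec 0 (fun j acc => (f.rho.get r).getD j 0 * v.getD j 0 + acc) D.rank

/-- the parity of a root on the code -/
noncomputable def parF (D : ChevalleyDatum) (f : Fast) (c r : ℕ) : ℤ :=
  Nat.rec 0 (fun j acc => cond (Nat.testBit c j) ((f.rho.get r).getD j 0) 0 + acc) D.rank

/-- the pairing of a coroot with a simple root -/
noncomputable def pairF (D : ChevalleyDatum) (f : Fast) (cm : List (List ℤ)) (s j : ℕ) : ℤ :=
  Nat.rec 0 (fun k acc => ((f.cor.get s).getD k (0, 0)).2 * (cm.getD k []).getD j 0 + acc) D.rank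

/-- the image under a word -/
noncomputable def wordF (f : Fast) (w : List ℕ) (r : ℕ) : ℕ :=
  List.rec r (fun i _ ih => wF f i ih) w

theorem memB_of_mem {l : List ℕ} {a : ℕ} (h : a ∈ l) : memB l a = true := by
  induction l with
  | nil => simp at h
  | cons e l ih =>
    show cond (Nat.beq e a) true (memB l a) = true
    cases he : Nat.beq e a with
    | true => rfl
    | false =>
      rw [cond_false]
      refine ih ((List.mem_cons.1 h).resolve_left fun h' => ?_)
      rw [natBeq_true h'.symm] at he
      exact Bool.false_ne_true he.symm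

theorem rec_sum (n : ℕ) (g : ℕ → ℤ) :
    Nat.rec (motive := fun _ => ℤ) 0 (fun j acc => g j + acc) n = ∑ j : Fin n, g j.val := by
  induction n with
  | zero => simp
  | succ n ih =>
    rw [Fin.sum_univ_castSucc]
    show g n + _ = _
    rw [ih, add_comm]
    rfl

namespace SubData

variable (f : Fast) (S : SubData)

/-- the sum of the pairings with the positive roots of the class -/
noncomputable def s1 (D : ChevalleyDatum) (r : ℕ) : ℤ := rdot D f S.y r

/-- the sum of the squared pairings with the base -/
noncomputable def s2 (D : ChevalleyDatum) (r : ℕ) : ℤ :=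
  (S.z.map fun v => rdot D f v r * rdot D f v r).sum

/-- the sum over the class of the pairings with one simple root -/
noncomputable def ySum (D : ChevalleyDatum) (j : ℕ) : ℤ :=
  Nat.rec 0 (fun s acc => cond (bit S.mask s) (pairF D f S.cm s j) 0 + acc) D.nroots

/-- the checks on one class -/
noncomputable def chk (D : ChevalleyDatum) : Bool :=
  let h := D.nroots / 2
  (allLt D.nroots fun r => bit S.mask r == (Nat.ble h r && decide (parF D f S.c r % 2 = 0))) &&
  (allList S.base fun b => Nat.blt b D.nroots && bit S.mask b) &&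
  Nat.beq S.y.length D.rank && Nat.beq S.z.length S.base.length &&
  Nat.beq S.W.length S.base.length && Nat.beq S.T.length S.base.length &&
  (allLt D.rank fun j => decide (S.y.getD j 0 = ySum f S D j)) &&
  (allLt S.base.length fun k => allLt D.rank fun j =>
    decide ((S.z.getD k []).getD j 0 = pairF D f S.cm (S.base.getD k 0) j)) &&
  (allLt D.nroots fun r =>
    (bit S.mask r && decide (S.s1 f D r = 2)) == memB S.base r) &&
  (allLt S.base.length fun k => allLt k fun k' =>
    !(Nat.beq (S.base.getD k 0) (S.base.getD k' 0))) &&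
  (allLt D.rank fun i => allLt h fun r =>
    !((bit S.mask r == bit S.mask (f.simples.get i)) &&
      decide (S.s1 f D r = S.s1 f D (f.simples.get i)) &&
      decide (S.s2 f D r = S.s2 f D (f.simples.get i)))) &&
  (allLt S.base.length fun k =>
    let t := S.T.getD k 0
    let b := S.base.getD k 0
    (allList (S.W.getD k []) fun i => Nat.blt i D.rank) &&
    Nat.beq (digit t b) (f.negs.get b) &&
    (allLt D.nroots fun r => Nat.beq (digit t r) (wordF f (S.W.getD k []) r) &&
      Nat.beq (digit t (digit t r)) r &&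
      (decide (parF D f S.c (digit t r) % 2 = 0) == decide (parF D f S.c r % 2 = 0)) &&
      cond (bit S.mask r && !(Nat.beq r b)) (bit S.mask (digit t r)) true)) &&
  (allLt D.nroots fun r => cond (bit S.mask r && !(memB S.base r))
    (memB (S.split.map fun x => x.1) r) true) &&
  (allList S.split fun x => Nat.blt x.1 D.nroots && Nat.blt x.2.1 x.1 && bit S.mask x.2.1 &&
    memB S.base x.2.2 && allLt D.rank fun j => decide ((f.rho.get x.1).getD j 0 =
      (f.rho.get x.2.1).getD j 0 + (f.rho.get x.2.2).getD j 0))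

end SubData

/-- the structure agrees with the tables -/
structure Tab (G : Good D) (f : Fast) (S : SubData) : Prop where
  rho : ∀ r j, G.rho r j = rhoD D f r j
  checks : Checks D f
  cm : ∀ k j : Fin D.rank, (S.cm.getD k.val []).getD j.val 0 = cmat D k j
  ok : S.chk f D = true

/-- the verified consequences of the checks -/
structure SubOk (G : Good D) (f : Fast) (S : SubData) : Prop where
  mask : ∀ r : Fin D.nroots, bit S.mask r.val = true ↔ PA G S.c r
  base_pa : ∀ b ∈ S.base, ∃ h : b < D.nroots, PA G S.c ⟨b, h⟩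
  finger : ∀ π ∈ stabC G S.c, (∀ r, PA G S.c r → PA G S.c (π r)) → π = 1
  refl : ∀ k, k < S.base.length → ∃ t ∈ stabC G S.c, (∀ r, (t r).val = digit (S.T.getD k 0) r.val) ∧
    (∀ r, t (t r) = r) ∧ ∃ h : S.base.getD k 0 < D.nroots,
      t ⟨_, h⟩ = G.negr ⟨_, h⟩ ∧
        ∀ r, PA G S.c r → r.val ≠ S.base.getD k 0 → PA G S.c (t r)
  split : ∀ r : Fin D.nroots, PA G S.c r → r.val ∉ S.base →
    ∃ s t : Fin D.nroots, s < r ∧ PA G S.c s ∧ t.val ∈ S.base ∧ G.rho r = G.rho s + G.rho t

theorem negr_val' (G : Good D) {f : Fast} (c : Checks D f) (r : Fin D.nroots) :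
    (G.negr r).val = f.negs.get r.val := by
  rw [G.negr_val, (rowsOK c.rows).negs r.val r.isLt]
  rfl

theorem subOk (G : Good D) {f : Fast} {S : SubData} (hT : Tab G f S) : SubOk G f S := by
  classical
  have hc := hT.ok
  simp only [SubData.chk, Bool.and_eq_true, Nat.beq_eq] at hc
  obtain ⟨⟨⟨⟨⟨⟨⟨⟨⟨⟨⟨⟨⟨hmask, hbase⟩, hyl⟩, hzl⟩, hWl⟩, hTl⟩, hy⟩, hz⟩, hb2⟩, hdist⟩, hfin⟩, hrefl⟩,
    hsplit⟩, hsp⟩ := hc
  have hrho : ∀ (r : Fin D.nroots) (j : Fin D.rank), (f.rho.get r.val).getD j.val 0 = G.rho r j :=
    fun r j => (hT.rho r j).symm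
  have hpar : ∀ r : Fin D.nroots, (parF D f S.c r.val % 2 = 0) ↔ inPhi G S.c r := by
    intro r
    rw [inPhi, Int.even_iff, parF, rec_sum]
    refine iff_of_eq (congrArg (fun a : ℤ => a % 2 = 0) (Finset.sum_congr rfl fun j _ => ?_))
    cases e : Nat.testBit S.c j.val <;>
      simp only [cond_false, cond_true, Bool.false_eq_true, if_false, if_true, hrho]
  have hm : ∀ r : Fin D.nroots, bit S.mask r.val = true ↔ PA G S.c r := by
    intro r
    have := allLt_spec hmask r.val r.isLt
    rw [beq_iff_eq] at this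
    rw [this, Bool.and_eq_true, Nat.ble_eq, decide_eq_true_eq, hpar, PA, G.pos_iff_half]
  have hdot : ∀ (v : List ℤ) (r : Fin D.nroots),
      rdot D f v r.val = ∑ j : Fin D.rank, G.rho r j * v.getD j.val 0 := by
    intro v r
    rw [rdot, rec_sum]
    exact Finset.sum_congr rfl fun j _ => by rw [hrho]
  have hpairF : ∀ (s : Fin D.nroots) (j : Fin D.rank),
      pairF D f S.cm s.val j.val = G.pair s j := by
    intro s j
    rw [pairF, rec_sum, Good.pair]
    refine Finset.sum_congr rfl fun k _ => ?_
    rw [(rowsOK hT.checks.rows).cor s.val s.isLt, List.getD_eq_getElem _ _ (by simp),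
      List.getElem_map, List.getElem_range, hT.cm, cart, cmat, G.simp_val]
  have hbz : ∀ b ∈ S.base, ∃ h : b < D.nroots, PA G S.c ⟨b, h⟩ := by
    intro b hb
    have := allList_spec hbase b hb
    simp only [Bool.and_eq_true, Nat.blt_eq] at this
    exact ⟨this.1, (hm ⟨b, this.1⟩).1 this.2⟩
  -- the first invariant
  have hs1 : ∀ r : Fin D.nroots, S.s1 f D r.val =
      ∑ s ∈ Finset.univ.filter (PA G S.c), prR G s r := by
    intro r
    simp only [prR_eq]
    rw [Finset.sum_comm, SubData.s1, hdot]
    refine Finset.sum_congr rfl fun j _ => ?_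
    rw [← Finset.mul_sum, of_decide_eq_true (allLt_spec hy j.val j.isLt), SubData.ySum, rec_sum,
      Finset.sum_filter]
    congr 1
    refine Finset.sum_congr rfl fun s _ => ?_
    by_cases h : PA G S.c s
    · rw [if_pos h, (hm s).2 h, cond_true, hpairF]
    · rw [if_neg h, Bool.eq_false_iff.2 (mt (hm s).1 h), cond_false]
  have hB : ∀ r : Fin D.nroots, r.val ∈ S.base ↔ PA G S.c r ∧ S.s1 f D r.val = 2 := by
    intro r
    have := allLt_spec hb2 r.val r.isLt
    rw [beq_iff_eq] at this
    constructor
    · intro h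
      rw [memB_of_mem h, Bool.and_eq_true, decide_eq_true_eq] at this
      exact ⟨(hm r).1 this.1, this.2⟩
    · rintro ⟨h1, h2⟩
      refine memB_spec ?_
      rw [← this, (hm r).2 h1, h2]
      rfl
  -- the base as a finite set
  let e : Fin S.base.length → Fin D.nroots := fun k => ⟨S.base.getD k.val 0, by
    rw [List.getD_eq_getElem _ _ k.isLt]; exact (hbz _ (List.getElem_mem _)).choose⟩
  have he : Function.Injective e := by
    intro a b hab
    by_contra hne
    have hv : S.base.getD a.val 0 = S.base.getD b.val 0 := congrArg Fin.val hab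
    rcases Nat.lt_or_gt_of_ne (fun h => hne (Fin.ext h)) with l | l
    · have := allLt_spec (allLt_spec hdist b.val b.isLt) a.val l
      rw [natBeq_true hv.symm] at this
      exact Bool.false_ne_true this
    · have := allLt_spec (allLt_spec hdist a.val a.isLt) b.val l
      rw [natBeq_true hv] at this
      exact Bool.false_ne_true this
  have hs2 : ∀ r : Fin D.nroots, S.s2 f D r.val =
      ∑ b ∈ Finset.univ.filter (fun b : Fin D.nroots => b.val ∈ S.base), prR G b r ^ 2 := by
    intro r
    have himg : (Finset.univ.filter fun b : Fin D.nroots => b.val ∈ S.base) =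
        Finset.univ.image e := by
      ext b
      simp only [Finset.mem_filter, Finset.mem_univ, true_and, Finset.mem_image]
      constructor
      · intro hb
        obtain ⟨k, hk, hkb⟩ := List.getElem_of_mem hb
        exact ⟨⟨k, hk⟩, Fin.ext ((List.getD_eq_getElem _ _ hk).trans hkb)⟩
      · rintro ⟨k, rfl⟩
        show S.base.getD k.val 0 ∈ S.base
        rw [List.getD_eq_getElem _ _ k.isLt]
        exact List.getElem_mem _
    rw [himg, Finset.sum_image fun a _ b _ h => he h, SubData.s2]
    have hlist : (S.z.map fun v => rdot D f v r.val * rdot D f v r.val) =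
        List.ofFn fun k : Fin S.base.length => prR G (e k) r ^ 2 := by
      refine List.ext_getElem (by simp [hzl]) fun k h1 h2 => ?_
      have hk : k < S.base.length := by simpa using h2
      rw [List.getElem_map, List.getElem_ofFn, prR_eq, sq,
        ← List.getD_eq_getElem S.z [] (by omega), hdot]
      have hpe : ∀ j : Fin D.rank, (S.z.getD k []).getD j.val 0 = G.pair (e ⟨k, hk⟩) j := fun j => by
        rw [of_decide_eq_true (allLt_spec (allLt_spec hz k hk) j.val j.isLt),
          ← hpairF (e ⟨k, hk⟩) j]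
      rw [Finset.sum_congr rfl fun j _ => by rw [hpe j]]
    rw [hlist, List.sum_ofFn]
  refine ⟨hm, hbz, ?_, ?_, ?_⟩
  · intro π hπ hpos
    have hπW : π ∈ G.Wg := (Finset.mem_filter.1 hπ).2.1
    have hiff : ∀ r, PA G S.c (π r) ↔ PA G S.c r := by
      intro r
      refine ⟨fun h => ?_, hpos r⟩
      have hin : inPhi G S.c r := ((Finset.mem_filter.1 hπ).2.2 r).1 h.2
      refine ⟨?_, hin⟩
      by_contra hn
      have h2 := (hpos (G.negr r) ⟨(G.negr_pos_iff r).2 hn, (inPhi_negr G _ r).2 hin⟩).1
      rw [G.negr_WJ hπW, G.negr_pos_iff] at h2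
      exact h2 h.1
    have h1 : ∀ r, S.s1 f D (π r).val = S.s1 f D r.val := by
      intro r
      rw [hs1, hs1]
      symm
      refine Finset.sum_equiv π (fun s => ?_) (fun s _ => (prR_perm G hπW s r).symm)
      simp [hiff]
    have h2 : ∀ r, S.s2 f D (π r).val = S.s2 f D r.val := by
      intro r
      rw [hs2, hs2]
      symm
      refine Finset.sum_equiv π (fun s => ?_) (fun s _ => by rw [prR_perm G hπW s r])
      simp [hB, hiff, h1]
    obtain ⟨l, rfl⟩ := G.exists_pw hπW
    refine G.pw_eq_one_of_pos l.length l rfl fun i => ?_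
    rw [G.pos_iff_half]
    by_contra hlt
    have := allLt_spec (allLt_spec hfin i.val i.isLt) _ (Nat.lt_of_not_le hlt)
    rw [G.simples_eq' hT.checks i, h1, h2, decide_eq_true rfl, decide_eq_true rfl,
      show bit S.mask (G.pw l (G.simp' i)).val = bit S.mask (G.simp' i).val from by
        rw [Bool.eq_iff_iff, hm, hm, hiff], beq_self_eq_true] at this
    exact Bool.false_ne_true this
  · intro k hk
    have := allLt_spec hrefl k hk
    simp only [Bool.and_eq_true, Nat.beq_eq] at this
    obtain ⟨⟨hw, htb⟩, hall⟩ := this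
    have hwlt : ∀ i ∈ S.W.getD k [], i < D.rank := fun i hi => Nat.blt_eq.mp (allList_spec hw i hi)
    have hword : ∀ (w : List ℕ), (∀ i ∈ w, i < D.rank) → ∃ π ∈ G.Wg,
        ∀ r : Fin D.nroots, (π r).val = wordF f w r.val := by
      intro w
      induction w with
      | nil => exact fun _ => ⟨1, one_mem _, fun r => rfl⟩
      | cons i w ih =>
        intro hi
        obtain ⟨π, hπ, hπr⟩ := ih fun a ha => hi a (List.mem_cons_of_mem _ ha)
        refine ⟨G.sP ⟨i, hi i (by simp)⟩ * π, mul_mem (Subgroup.subset_closure ⟨_, rfl⟩) hπ,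
          fun r => ?_⟩
        rw [Equiv.Perm.mul_apply, G.sP_apply, G.w_eq_wF hT.checks, hπr]
        rfl
    obtain ⟨t, htW, htw⟩ := hword _ hwlt
    have hr : ∀ r : Fin D.nroots, (t r).val = digit (S.T.getD k 0) r.val := fun r => by
      have := allLt_spec hall r.val r.isLt
      simp only [Bool.and_eq_true, Nat.beq_eq] at this
      rw [htw, this.1.1.1]
    have htt : ∀ r : Fin D.nroots, t (t r) = r := fun r => Fin.ext (by
      have := allLt_spec hall r.val r.isLt
      simp only [Bool.and_eq_true, Nat.beq_eq] at this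
      rw [hr, hr, this.1.1.2])
    have hts : t ∈ stabC G S.c := by
      refine Finset.mem_filter.2 ⟨Finset.mem_univ _, htW, fun r => ?_⟩
      have := allLt_spec hall r.val r.isLt
      simp only [Bool.and_eq_true, beq_iff_eq] at this
      rw [← hpar, ← hpar, hr]
      exact decide_eq_decide.1 this.1.2
    have hbk : S.base.getD k 0 ∈ S.base := by
      rw [List.getD_eq_getElem _ _ hk]; exact List.getElem_mem _
    refine ⟨t, hts, hr, htt, (hbz _ hbk).choose, ?_, fun r h1 h2 => ?_⟩
    · exact Fin.ext (by rw [hr, negr_val' G hT.checks, htb])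
    · have := allLt_spec hall r.val r.isLt
      simp only [Bool.and_eq_true] at this
      have h3 := this.2
      rw [(hm r).2 h1, natBeq_false h2, Bool.not_false, Bool.and_true, cond_true] at h3
      rw [← hm, hr]
      exact h3
  · intro r hr hrb
    have := allLt_spec hsplit r.val r.isLt
    rw [(hm r).2 hr, Bool.eq_false_iff.2 (fun h => hrb (memB_spec h)), Bool.not_false, Bool.and_true,
      cond_true] at this
    obtain ⟨x, hx, hxr⟩ := List.mem_map.1 (memB_spec this)
    have := allList_spec hsp x hx
    simp only [Bool.and_eq_true, Nat.blt_eq] at this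
    obtain ⟨⟨⟨⟨hl1, hl2⟩, hl3⟩, hl4⟩, hl5⟩ := this
    have hb4 := memB_spec hl4
    obtain ⟨hlt4, -⟩ := hbz _ hb4
    refine ⟨⟨x.2.1, hl2.trans hl1⟩, ⟨x.2.2, hlt4⟩, Fin.lt_def.2 (show x.2.1 < r.val by omega),
      (hm _).1 hl3, hb4, funext fun j => ?_⟩
    have hj := of_decide_eq_true (allLt_spec hl5 j.val j.isLt)
    rw [hxr] at hj
    rw [Pi.add_apply, ← hrho r j, hj, ← hrho, ← hrho]

end CfsgLib.Lie.OddInvol
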