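import Cfsg.Agent.Lib.Lie.Chev.OddInvol.Main
import Cfsg.Agent.Lib.Lie.Chev.OddInvol.DataG2a
import Cfsg.Agent.Lib.Lie.Chev.OddInvol.DataF4a
import Cfsg.Agent.Lib.Lie.Chev.OddInvol.DataF4b
import Cfsg.Agent.Lib.Lie.Chev.OddInvol.DataE8a
import Cfsg.Agent.Lib.Lie.Chev.OddInvol.DataE8b
import Cfsg.Agent.Lib.Lie.Chev.CoxTorus.Data

/-!
# The types G₂, F₄ and E₈ in odd characteristic
-/

set_option autoImplicit false
set_option maxRecDepth 100000

namespace CfsgLib.Lie.OddInvol

open Cfsg.Lie CfsgLib.Lie.Chev CfsgLib.Lie.CoxTorus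

theorem invG2 : InvData chevG2 := ⟨by decide +kernel, by decide +kernel, by decide +kernel⟩

theorem invF4 : InvData chevF4 := ⟨by decide +kernel, by decide +kernel, by decide +kernel⟩

theorem invE8 : InvData chevE8 := ⟨by decide +kernel, by decide +kernel, by decide +kernel⟩

/-- the parities of the Cartan matrix of type G2 -/
def mskG2 : List ℕ := [2, 1]

/-- the parities of the Cartan matrix of type F4 -/
def mskF4 : List ℕ := [2, 1, 10, 4]

/-- the parities of the Cartan matrix of type E8 -/
def mskE8 : List ℕ := [4, 8, 9, 22, 40, 80, 160, 64]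

theorem mskG2_ok : MskOk chevG2 mskG2 := by
  unfold MskOk; decide +kernel

theorem mskF4_ok : MskOk chevF4 mskF4 := by
  unfold MskOk; decide +kernel

theorem mskE8_ok : MskOk chevE8 mskE8 := by
  unfold MskOk; decide +kernel

theorem closeG2 : ∀ c < 2 ^ chevG2.rank, c ≠ 0 →
    ((grow chevG2.rank mskG2)^[1] (2 ^ 2)).testBit c = true ∨
      ((grow chevG2.rank mskG2)^[1] (2 ^ 2)).testBit c = true := by
  decide +kernel

theorem closeF4 : ∀ c < 2 ^ chevF4.rank, c ≠ 0 →
    ((grow chevF4.rank mskF4)^[2] (2 ^ 1)).testBit c = true ∨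
      ((grow chevF4.rank mskF4)^[2] (2 ^ 5)).testBit c = true := by
  decide +kernel

theorem closeE8 : ∀ c < 2 ^ chevE8.rank, c ≠ 0 →
    ((grow chevE8.rank mskE8)^[6] (2 ^ 5)).testBit c = true ∨
      ((grow chevE8.rank mskE8)^[6] (2 ^ 11)).testBit c = true := by
  decide +kernel

open scoped Classical in
theorem card_inPhi {D : ChevalleyDatum} {G : Good D} {f : Fast}
    (h : ∀ r j, G.rho r j = rhoD D f r j) (c : ℕ) :
    (Finset.univ.filter (inPhi G c)).card =
      (Finset.univ.filter fun r : Fin D.nroots => parF D f c r.val % 2 = 0).card := by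
  congr 1
  ext r
  simp only [Finset.mem_filter, Finset.mem_univ, true_and]
  rw [inPhi, Int.even_iff, parF, rec_sum]
  refine iff_of_eq (congrArg (fun a : ℤ => a % 2 = 0) (Finset.sum_congr rfl fun j _ => ?_))
  cases e : Nat.testBit c j.val <;>
    simp only [cond_false, cond_true, Bool.false_eq_true, if_false, if_true, h, rhoD]

open scoped Classical in
theorem neF4 : (Finset.univ.filter (inPhi cF4.G 1)).card ≠
    (Finset.univ.filter (inPhi cF4.G 5)).card := by
  have h : (Finset.univ.filter fun r : Fin chevF4.nroots => parF chevF4 fastF4 1 r.val % 2 = 0).card ≠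
      (Finset.univ.filter fun r : Fin chevF4.nroots => parF chevF4 fastF4 5 r.val % 2 = 0).card := by
    decide +kernel
  rw [card_inPhi (G := cF4.G) (f := fastF4) (fun _ _ => rfl),
    card_inPhi (G := cF4.G) (f := fastF4) (fun _ _ => rfl)]
  exact h

open scoped Classical in
theorem neE8 : (Finset.univ.filter (inPhi cE8.G 5)).card ≠
    (Finset.univ.filter (inPhi cE8.G 11)).card := by
  have h : (Finset.univ.filter fun r : Fin chevE8.nroots => parF chevE8 fastE8 5 r.val % 2 = 0).card ≠
      (Finset.univ.filter fun r : Fin chevE8.nroots => parF chevE8 fastE8 11 r.val % 2 = 0).card := by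
    decide +kernel
  rw [card_inPhi (G := cE8.G) (f := fastE8) (fun _ _ => rfl),
    card_inPhi (G := cE8.G) (f := fastE8) (fun _ _ => rfl)]
  exact h

end CfsgLib.Lie.OddInvol
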